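import Groth.Prelude.Def_NoriFGS

/-!
# Morphisms of schemes which are locally split for the fpqc topology

`LS π` : `π : P ⟶ X` has sections over the members of an fpqc covering family of `X`.
Stable under base change and composition, implied by faithfully flat + quasi-compact; such a morphism
is an (effective) epimorphism: `LS.desc`, `LS.epi`, `LS.lift_mono`.
-/

set_option autoImplicit false
universe u
open CategoryTheory CategoryTheory.Limits AlgebraicGeometry Opposite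

namespace K996.LocSplit

/-- `π : P ⟶ X` has sections over the members of an fpqc covering family of `X`. -/
def LS {P X : Scheme.{u}} (π : P ⟶ X) : Prop :=
  ∃ R ∈ Scheme.fpqcPrecoverage X, ∀ ⦃S' : Scheme.{u}⦄ (f : S' ⟶ X), R f → ∃ s : S' ⟶ P, s ≫ π = f

theorem ls_iff {X : Scheme.{u}} (P : Over X) :
    LS P.hom ↔ NonAbH1.IsLocallyTrivialFor Scheme.fpqcPrecoverage P := Iff.rfl

theorem LS.of_flat {P X : Scheme.{u}} (π : P ⟶ X) [Flat π] [Surjective π] [QuasiCompact π] : LS π :=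
  ⟨Presieve.singleton π, Scheme.Hom.singleton_mem_fpqcPrecoverage π, by
    rintro S' f ⟨⟩; exact ⟨𝟙 _, Category.id_comp _⟩⟩

theorem LS.of_comp {P Q X : Scheme.{u}} {π : P ⟶ X} {ρ : Q ⟶ P} (h : LS (ρ ≫ π)) : LS π := by
  obtain ⟨R, hR, hs⟩ := h
  refine ⟨R, hR, fun S' f hf => ?_⟩
  obtain ⟨s, hs⟩ := hs f hf
  exact ⟨s ≫ ρ, by rw [Category.assoc, hs]⟩

theorem LS.bc {P X Y Q : Scheme.{u}} {π : P ⟶ X} (h : LS π) {g : Q ⟶ P} {ρ : Q ⟶ Y} {f : Y ⟶ X}
    (sq : IsPullback g ρ π f) : LS ρ := by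
  obtain ⟨R, hR, hs⟩ := h
  refine ⟨R.pullbackArrows f, Precoverage.pullbackArrows_mem f hR, ?_⟩
  rintro T t ⟨Z, u, hu⟩
  obtain ⟨s, hs⟩ := hs u hu
  refine ⟨sq.lift (pullback.fst u f ≫ s) (pullback.snd u f) ?_, sq.lift_snd _ _ _⟩
  rw [Category.assoc, hs, pullback.condition]

theorem LS.bc' {P X Y : Scheme.{u}} {π : P ⟶ X} (h : LS π) (f : Y ⟶ X) : LS (pullback.snd π f) :=
  h.bc (IsPullback.of_hasPullback π f)

theorem LS.comp {P Q X : Scheme.{u}} {π : P ⟶ X} {ρ : Q ⟶ P} (hπ : LS π) (hρ : LS ρ) : LS (ρ ≫ π) := by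
  obtain ⟨R, hR, hs⟩ := hπ
  obtain ⟨ι, Z, f, rfl⟩ := R.exists_eq_ofArrows
  choose s hs using fun i => hs (f i) (Presieve.ofArrows.mk i)
  have h1 : ∀ i, LS (pullback.snd ρ (s i)) := fun i => hρ.bc' (s i)
  choose R' hR' hs' using h1
  have h2 : ∀ i, ∃ (σ : Type (u+1)) (Y : σ → Scheme.{u}) (g : ∀ j, Y j ⟶ Z i), R' i = Presieve.ofArrows Y g := by
    intro i
    obtain ⟨σ, Y, g, h⟩ := (R' i).exists_eq_ofArrows
    exact ⟨σ, Y, g, h⟩
  choose σ Y g hg using h2
  refine ⟨_, Precoverage.comp_mem_coverings f hR g (fun i => by rw [← hg i]; exact hR' i), ?_⟩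
  rintro S' t ⟨⟨i, j⟩⟩
  obtain ⟨t', ht'⟩ := hs' i (g i j) (by rw [hg i]; exact Presieve.ofArrows.mk j)
  refine ⟨t' ≫ pullback.fst ρ (s i), ?_⟩
  rw [Category.assoc, ← Category.assoc (pullback.fst ρ (s i)), pullback.condition, Category.assoc, hs i,
    ← Category.assoc, ht']

theorem isSheafFor {X Z : Scheme.{u}} {R : Presieve X} (hR : R ∈ Scheme.fpqcPrecoverage X) :
    Presieve.IsSheafFor (yoneda.obj Z) R := by
  rw [Presieve.isSheafFor_iff_generate]
  have h : Sieve.generate R ∈ Scheme.fpqcTopology X := Precoverage.generate_mem_toGrothendieck hR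
  have h' : Presieve.IsSheaf Scheme.fpqcTopology (yoneda.obj Z) :=
    GrothendieckTopology.Subcanonical.isSheaf_of_isRepresentable _
  exact h' _ h

/-- Descent of morphisms along a locally split morphism. -/
theorem LS.desc {P X : Scheme.{u}} {π : P ⟶ X} (h : LS π) {Z : Scheme.{u}} (ψ : P ⟶ Z)
    (hψ : ∀ (T : Scheme.{u}) (p p' : T ⟶ P), p ≫ π = p' ≫ π → p ≫ ψ = p' ≫ ψ) :
    ∃ z : X ⟶ Z, π ≫ z = ψ := by
  obtain ⟨R, hR, hs⟩ := h
  choose s hs using hs
  have hsh := isSheafFor (Z := Z) hR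
  let x : Presieve.FamilyOfElements (yoneda.obj Z) R := fun T f hf => s f hf ≫ ψ
  have hx : x.Compatible := by
    intro Y₁ Y₂ T g₁ g₂ f₁ f₂ h₁ h₂ hfg
    change g₁ ≫ s f₁ h₁ ≫ ψ = g₂ ≫ s f₂ h₂ ≫ ψ
    rw [← Category.assoc, ← Category.assoc]
    apply hψ
    rw [Category.assoc, Category.assoc, hs, hs, hfg]
  refine ⟨hsh.amalgamate x hx, ?_⟩
  -- check on the pullback cover of `P`
  have hR' := Precoverage.pullbackArrows_mem π hR
  refine (isSheafFor (Z := Z) hR').isSeparatedFor.ext ?_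
  rintro T t ⟨W, f, hf⟩
  have h1 := hsh.valid_glue hx f hf
  change f ≫ hsh.amalgamate x hx = s f hf ≫ ψ at h1
  change pullback.snd f π ≫ π ≫ hsh.amalgamate x hx = pullback.snd f π ≫ ψ
  rw [← Category.assoc, ← pullback.condition, Category.assoc, h1, ← Category.assoc]
  apply hψ
  rw [Category.assoc, hs, pullback.condition]

theorem LS.epi {P X : Scheme.{u}} {π : P ⟶ X} (h : LS π) : Epi π := by
  obtain ⟨R, hR, hs⟩ := h
  refine ⟨fun {Z} a b hab => ?_⟩
  refine (isSheafFor (Z := Z) hR).isSeparatedFor.ext ?_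
  intro T f hf
  obtain ⟨s, hs⟩ := hs f hf
  change f ≫ a = f ≫ b
  rw [← hs, Category.assoc, hab, Category.assoc]

/-- Lifting along a monomorphism can be checked after a locally split cover. -/
theorem LS.lift_mono {P X : Scheme.{u}} {π : P ⟶ X} (h : LS π) {Z' Z : Scheme.{u}} (m : Z' ⟶ Z) [Mono m]
    (z : X ⟶ Z) (y : P ⟶ Z') (hy : y ≫ m = π ≫ z) : ∃ z' : X ⟶ Z', z' ≫ m = z := by
  obtain ⟨z', hz'⟩ := h.desc y (fun T p p' hp => by
    rw [← cancel_mono m, Category.assoc, Category.assoc, hy, ← Category.assoc, hp, Category.assoc])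
  have := h.epi
  refine ⟨z', ?_⟩
  rw [← cancel_epi π, ← Category.assoc, hz', hy]

theorem LS.of_iso {P X : Scheme.{u}} (π : P ⟶ X) [IsIso π] : LS π := LS.of_flat π

end K996.LocSplit
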