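import Groth.Agent.NoriFGS.K996.Pts

/-!
# Actions of a base-changed group, as actions over the base
-/

set_option autoImplicit false
universe u
open CategoryTheory CategoryTheory.Limits MonoidalCategory CartesianMonoidalCategory MonObj GrpObj AlgebraicGeometry

namespace K996.KAct

open AlgGrp AlgGrp.Action K996.Pts

variable {S X : Scheme.{u}} (q : X ⟶ S)

/-- The comparison of `G ×_S P` with `(G ×_S X) ×_X P`, on schemes. -/
noncomputable def kmap₀ (G : Over S) (P : Over X) :
    pullback G.hom (P.hom ≫ q) ⟶ pullback (pullback.snd G.hom q) P.hom :=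
  pullback.lift
    (pullback.lift (f := G.hom) (g := q) (pullback.fst G.hom (P.hom ≫ q)) (pullback.snd G.hom (P.hom ≫ q) ≫ P.hom)
      (by rw [pullback.condition, Category.assoc])) (pullback.snd G.hom (P.hom ≫ q))
      (by rw [pullback.lift_snd])

/-- The comparison of `G ×_S P` with `(G ×_S X) ×_X P`. -/
noncomputable def kmap (G : Over S) (P : Over X) :
    G ⊗ (Over.map q).obj P ⟶ (Over.map q).obj (Red.bc q G ⊗ P) :=
  Over.homMk (kmap₀ q G P)
    (by
      change kmap₀ q G P ≫ (pullback.fst (pullback.snd G.hom q) P.hom ≫ pullback.snd G.hom q) ≫ q =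
        pullback.fst G.hom (P.hom ≫ q) ≫ G.hom
      have h1 : kmap₀ q G P ≫ pullback.fst (pullback.snd G.hom q) P.hom ≫ pullback.snd G.hom q =
          pullback.snd G.hom (P.hom ≫ q) ≫ P.hom := by
        rw [kmap₀, pullback.lift_fst_assoc, pullback.lift_snd]
      rw [← Category.assoc, h1, Category.assoc, ← pullback.condition])

theorem kmap_left_fst_fst (G : Over S) (P : Over X) :
    (kmap q G P).left ≫ pullback.fst (Red.bc q G).hom P.hom ≫ pullback.fst G.hom q =
      pullback.fst G.hom (P.hom ≫ q) := by
  change kmap₀ q G P ≫ pullback.fst (pullback.snd G.hom q) P.hom ≫ pullback.fst G.hom q = _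
  rw [kmap₀, pullback.lift_fst_assoc, pullback.lift_fst]

theorem kmap_left_snd (G : Over S) (P : Over X) :
    (kmap q G P).left ≫ pullback.snd (Red.bc q G).hom P.hom = pullback.snd G.hom (P.hom ≫ q) := by
  change kmap₀ q G P ≫ pullback.snd (pullback.snd G.hom q) P.hom = _
  rw [kmap₀, pullback.lift_snd]

theorem lift_kmap {G : Over S} {P T : Over X} (g : (Over.map q).obj T ⟶ G) (p : T ⟶ P) :
    lift g ((Over.map q).map p) ≫ kmap q G P = (Over.map q).map (lift (up q g) p) := by
  apply Over.OverMorphism.ext
  have e1 : (lift (up q g) p).left ≫ pullback.fst (Red.bc q G).hom P.hom = (up q g).left :=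
    congrArg (fun x => x.left) (lift_fst (up q g) p)
  have e2 : (lift (up q g) p).left ≫ pullback.snd (Red.bc q G).hom P.hom = p.left :=
    congrArg (fun x => x.left) (lift_snd (up q g) p)
  have e3 : (lift g ((Over.map q).map p)).left ≫ pullback.fst G.hom (P.hom ≫ q) = g.left :=
    congrArg (fun x => x.left) (lift_fst g ((Over.map q).map p))
  have e4 : (lift g ((Over.map q).map p)).left ≫ pullback.snd G.hom (P.hom ≫ q) = p.left :=
    congrArg (fun x => x.left) (lift_snd g ((Over.map q).map p))
  change (lift g ((Over.map q).map p)).left ≫ (kmap q G P).left = (lift (up q g) p).left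
  apply pullback.hom_ext
  · rw [e1]
    apply pullback.hom_ext
    · rw [Category.assoc, Category.assoc, kmap_left_fst_fst, e3, up_left_fst]
    · change (_ ≫ pullback.fst (Red.bc q G).hom P.hom) ≫ (Red.bc q G).hom = _
      rw [Category.assoc, Category.assoc, pullback.condition, up_left_snd,
        reassoc_of% (kmap_left_snd q G P), reassoc_of% e4, Over.w]
  · rw [Category.assoc, kmap_left_snd, e4, e2]

variable {q} in
/-- Test equality of morphisms to `S`-schemes on points from `X`-schemes. -/
theorem exists_iso {P : Over X} {T : Over S} (p : T ⟶ (Over.map q).obj P) :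
    ∃ (T' : Over X) (e : (Over.map q).obj T' ≅ T) (p' : T' ⟶ P), e.hom ≫ p = (Over.map q).map p' := by
  refine ⟨Over.mk (p.left ≫ P.hom), Over.isoMk (Iso.refl _) ?_, Over.homMk p.left rfl, ?_⟩
  · change 𝟙 _ ≫ T.hom = (p.left ≫ P.hom) ≫ q
    rw [Category.id_comp, Category.assoc]
    exact (Over.w p).symm
  · ext
    exact Category.id_comp _

variable {G : Over S} [GrpObj G] {P : Over X}

theorem lift_kact_aux (a : Action (Red.bc q G) P) {T : Over X} (g : (Over.map q).obj T ⟶ G) (p : T ⟶ P) :
    lift g ((Over.map q).map p) ≫ kmap q G P ≫ (Over.map q).map a.act =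
      (Over.map q).map (lift (up q g) p ≫ a.act) := by
  rw [← Category.assoc, lift_kmap, ← Functor.map_comp]

/-- The action of `G` on the total space over the base. -/
noncomputable def kact (a : Action (Red.bc q G) P) : Action G ((Over.map q).obj P) where
  act := kmap q G P ≫ (Over.map q).map a.act
  one_act := by
    apply hom_ext_lift₂
    intro T u p
    have hu : u ≫ η[G] = 1 := by rw [Hom.one_def, toUnit_unique (toUnit T) u]
    rw [lift_whiskerRight_assoc, hu, leftUnitor_hom, lift_snd]
    obtain ⟨T', e, p', he⟩ := exists_iso p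
    have h1 : e.hom ≫ (1 : T ⟶ G) = 1 := by
      rw [Hom.one_def, Hom.one_def, ← Category.assoc, toUnit_unique (e.hom ≫ toUnit T) (toUnit _)]
    rw [← cancel_epi e.hom, comp_lift_assoc, he, h1, lift_kact_aux, up_one, lift_one_act]
  mul_act := by
    apply hom_ext_lift₃
    intro T g g' p
    rw [lift_whiskerRight_assoc, ← Hom.mul_def, lift_lift_associator_hom_assoc, lift_whiskerLeft_assoc]
    obtain ⟨T', e, p', he⟩ := exists_iso p
    rw [← cancel_epi e.hom, comp_lift_assoc, he, comp_mul, lift_kact_aux, up_mul, lift_mul_act, comp_lift_assoc,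
      comp_lift_assoc, he, lift_kact_aux, lift_kact_aux]

theorem sm_kact (a : Action (Red.bc q G) P) {T : Over X} (g : (Over.map q).obj T ⟶ G) (p : T ⟶ P) :
    sm (kact q a) g ((Over.map q).map p) = (Over.map q).map (sm a (up q g) p) :=
  lift_kact_aux q a g p

/-- The structure map of the total space. -/
noncomputable def pr (P : Over X) : (Over.map q).obj P ⟶ Over.mk q := Over.homMk P.hom rfl

@[simp] theorem pr_left (P : Over X) : (pr q P).left = P.hom := rfl

@[reassoc (attr := simp)]
theorem map_pr {P Q : Over X} (f : P ⟶ Q) : (Over.map q).map f ≫ pr q Q = pr q P := by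
  ext
  exact Over.w f

/-- The action preserves the structure map. -/
@[reassoc]
theorem sm_kact_pr (a : Action (Red.bc q G) P) {T : Over S} (g : T ⟶ G) (p : T ⟶ (Over.map q).obj P) :
    sm (kact q a) g p ≫ pr q P = p ≫ pr q P := by
  obtain ⟨T', e, p', he⟩ := exists_iso p
  rw [← cancel_epi e.hom, ← Category.assoc, comp_sm, ← Category.assoc, he, sm_kact, map_pr, map_pr]

/-- Morphisms over `S` of total spaces compatible with the structure maps to `X` come from morphisms over `X`. -/
theorem exists_hom_of_pr {P Q : Over X} (f : (Over.map q).obj P ⟶ (Over.map q).obj Q) (h : f ≫ pr q Q = pr q P) :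
    ∃ f' : P ⟶ Q, (Over.map q).map f' = f :=
  ⟨Over.homMk f.left (congrArg (fun x => x.left) h), rfl⟩

theorem map_injective {P Q : Over X} {f g : P ⟶ Q} (h : (Over.map q).map f = (Over.map q).map g) : f = g := by
  ext
  exact congrArg (fun x => x.left) h

/-- Equivariance can be tested over the base. -/
theorem isEquivariant_iff_kact {G' : Over S} [GrpObj G'] {Q : Over X} {a : Action (Red.bc q G) P} {b : Action (Red.bc q G') Q}
    {φ : G ⟶ G'} [IsMonHom φ] {f : P ⟶ Q} :
    IsEquivariant a (b.restrict ((Over.pullback q).map φ)) f ↔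
      ∀ (T : Over S) (g : T ⟶ G) (p : T ⟶ (Over.map q).obj P),
        sm (kact q a) g p ≫ (Over.map q).map f = sm (kact q b) (g ≫ φ) (p ≫ (Over.map q).map f) := by
  rw [isEquivariant_restrict_iff]
  constructor
  · intro h T g p
    obtain ⟨T', e, p', he⟩ := exists_iso p
    have h1 := h T' (up q (e.hom ≫ g)) p'
    rw [up_comp] at h1
    rw [← cancel_epi e.hom, ← Category.assoc, comp_sm, comp_sm, ← Category.assoc, ← Category.assoc, he, sm_kact,
      ← Functor.map_comp, ← Functor.map_comp, sm_kact, h1]
  · intro h T g p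
    have h1 := h _ (dn q g) ((Over.map q).map p)
    rw [sm_kact, up_dn, ← Functor.map_comp, ← Functor.map_comp, sm_kact, ← up_comp, up_dn] at h1
    exact map_injective q h1

/-- Pseudo-torsors in terms of points over the base. -/
theorem isPseudoTorsorSch_iff_kact {a : Action (Red.bc q G) P} :
    NonAbH1.IsPseudoTorsorSch a ↔ ∀ (T : Over S) (p p' : T ⟶ (Over.map q).obj P), p ≫ pr q P = p' ≫ pr q P →
      ∃! g : T ⟶ G, sm (kact q a) g p = p' := by
  rw [isPseudoTorsorSch_iff]
  constructor
  · intro h T p p' hp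
    obtain ⟨T', e, p₁, he⟩ := exists_iso p
    obtain ⟨p₂, hp₂⟩ := exists_hom_of_pr q (e.hom ≫ p') (by rw [Category.assoc, ← hp, ← Category.assoc, he, map_pr])
    obtain ⟨g, hg, hu⟩ := h T' p₁ p₂
    refine ⟨e.inv ≫ dn q g, ?_, fun g' hg' => ?_⟩
    · dsimp only at hg ⊢
      rw [← cancel_epi e.hom, comp_sm, Iso.hom_inv_id_assoc, he, sm_kact, up_dn, hg, hp₂]
    · rw [Iso.eq_inv_comp]
      apply up_injective q
      rw [up_dn]
      apply hu
      apply map_injective q
      rw [← sm_kact, ← he, ← comp_sm, hg', hp₂]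
  · intro h T p p'
    obtain ⟨g, hg, hu⟩ := h _ ((Over.map q).map p) ((Over.map q).map p') (by rw [map_pr, map_pr])
    refine ⟨up q g, ?_, fun g' hg' => ?_⟩
    · apply map_injective q
      rw [← sm_kact]
      exact hg
    · rw [← hu (dn q g') (by dsimp only; rw [sm_kact, up_dn]; dsimp only at hg'; rw [hg']), up_dn]

end K996.KAct
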