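import Groth.Agent.NoriFGS.K996.Rk

/-!
# Constancy of the rank of `H⁰` and base change, over an integral base
-/

set_option autoImplicit false
set_option linter.style.haveILetI false
universe u
open CategoryTheory CategoryTheory.Limits AlgebraicGeometry TensorProduct
open Groth.Agent.Ega3B.EqzSections

namespace K996.Chart

open K996.Rk K996.H0BC

theorem isIso_appTop {X Y : Scheme.{u}} (j : X ⟶ Y) [IsIso j] : IsIso j.appTop := inferInstanceAs (IsIso (j.app ⊤))

/-- `O = ν_* O` restricts to open subschemes. -/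
theorem isIso_appTop_of_isPullback {Z U P W : Scheme.{u}} {ν : Z ⟶ U} (hν : ∀ V : U.Opens, IsIso (ν.app V))
    {a : P ⟶ Z} {b : P ⟶ W} {j : W ⟶ U} [IsOpenImmersion j] (sq : IsPullback a b ν j) : IsIso b.appTop := by
  have h1 : j.isoOpensRange.hom ≫ j.opensRange.ι = j := j.isoOpensRange_hom_ι
  have h2 : IsPullback a (b ≫ j.isoOpensRange.hom) ν j.opensRange.ι := by
    refine IsPullback.of_iso sq (Iso.refl _) (Iso.refl _) j.isoOpensRange (Iso.refl _) ?_ ?_ ?_ ?_
    · simp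
    · simp
    · simp
    · simp
  have h3 := isPullback_morphismRestrict ν j.opensRange
  have h4 : b ≫ j.isoOpensRange.hom = (h2.flip.isoIsPullback _ _ h3).hom ≫ (ν ∣_ j.opensRange) :=
    (IsPullback.isoIsPullback_hom_fst _ _ h2.flip h3).symm
  have h5 : IsIso (ν ∣_ j.opensRange).appTop := by
    rw [Scheme.Hom.appTop, morphismRestrict_app]
    exact @IsIso.comp_isIso _ _ _ _ _ _ _ (hν _) (Functor.map_isIso _ _)
  have h6 : b = (h2.flip.isoIsPullback _ _ h3).hom ≫ (ν ∣_ j.opensRange) ≫ j.isoOpensRange.inv := by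
    rw [← Category.assoc, ← h4, Category.assoc, Iso.hom_inv_id, Category.comp_id]
  have h7 : ∀ b' : P ⟶ W, b' = (h2.flip.isoIsPullback _ _ h3).hom ≫ (ν ∣_ j.opensRange) ≫ j.isoOpensRange.inv →
      IsIso b'.appTop := by
    rintro _ rfl
    rw [Scheme.Hom.comp_appTop, Scheme.Hom.comp_appTop]
    exact @IsIso.comp_isIso _ _ _ _ _ _ _ (@IsIso.comp_isIso _ _ _ _ _ _ _ (isIso_appTop _) h5) (isIso_appTop _)
  exact h7 b h6

section

variable {A : Type u} [CommRing A] [IsDomain A] [IsNoetherianRing A] {Z : Scheme.{u}}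
  (π : Z ⟶ Spec (CommRingCat.of A)) [IsProper π] [Flat π]

omit [IsNoetherianRing A] in
theorem ker_eq {L : Type u} [Field L] (ξ : Spec (CommRingCat.of L) ⟶ Spec (CommRingCat.of A))
    (hξ : ∀ q, ξ.base q = genericPoint (Spec (CommRingCat.of A))) : Function.Injective (Spec.preimage ξ).hom := by
  rw [injective_iff_map_eq_zero]
  intro a ha
  have h1 := hξ (⊥ : PrimeSpectrum L)
  rw [genericPoint_eq_bot_of_affine, ← Spec.map_preimage ξ] at h1
  have h2 : (PrimeSpectrum.comap (Spec.preimage ξ).hom (⊥ : PrimeSpectrum L)) = (⊥ : PrimeSpectrum A) := h1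
  have h3 := congrArg PrimeSpectrum.asIdeal h2
  have h4 : a ∈ (PrimeSpectrum.comap (Spec.preimage ξ).hom (⊥ : PrimeSpectrum L)).asIdeal := by
    rw [PrimeSpectrum.comap_asIdeal, Ideal.mem_comap, ha]
    exact Ideal.zero_mem _
  rw [h3] at h4
  exact h4

theorem affine (n : ℕ)
    (H1 : ∀ (Ω : Type u) [Field Ω] [IsAlgClosed Ω] (yb : Spec (CommRingCat.of Ω) ⟶ Spec (CommRingCat.of A))
      (P : Scheme.{u}) (g : P ⟶ Z) (q : P ⟶ Spec (CommRingCat.of Ω)), IsPullback g q π yb → rk q ≤ n)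
    (L : Type u) [Field L] (ξ : Spec (CommRingCat.of L) ⟶ Spec (CommRingCat.of A))
    (hξ : ∀ q, ξ.base q = genericPoint (Spec (CommRingCat.of A))) {PL : Scheme.{u}} {gL : PL ⟶ Z}
    {qL : PL ⟶ Spec (CommRingCat.of L)} (HL : IsPullback gL qL π ξ) (H2 : rk qL = n)
    {U : Scheme.{u}} [IsAffine U] (ν : Z ⟶ U) [IsIso ν.appTop] (u : U ⟶ Spec (CommRingCat.of A)) (hν : ν ≫ u = π)
    {Ω : Type u} [Field Ω] (yb : Spec (CommRingCat.of Ω) ⟶ Spec (CommRingCat.of A)) {P : Scheme.{u}} {g : P ⟶ Z}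
    {q : P ⟶ Spec (CommRingCat.of Ω)} (H : IsPullback g q π yb) {U' : Scheme.{u}} {gU : U' ⟶ U}
    {qU : U' ⟶ Spec (CommRingCat.of Ω)} (HU : IsPullback gU qU u yb) {ν' : P ⟶ U'} (h1 : ν' ≫ gU = g ≫ ν)
    (h2 : ν' ≫ qU = q) : rk q = n ∧ IsIso ν'.appTop := by
  letI : Algebra A L := (Spec.preimage ξ).hom.toAlgebra
  have eξ : Spec.map (CommRingCat.ofHom (algebraMap A L)) = ξ := Spec.map_preimage ξ
  have hL : Function.Injective (algebraMap A L) := ker_eq ξ hξ
  letI : Algebra A Ω := (Spec.preimage yb).hom.toAlgebra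
  have ey : Spec.map (CommRingCat.ofHom (algebraMap A Ω)) = yb := Spec.map_preimage yb
  obtain ⟨k1, k2⟩ := isPushout_of_ranks π n (fun Ω _ _ _ Y g q sq => by
      rw [← rk_eq_sec]
      exact H1 Ω _ Y g q sq) L hL (by rw [eξ]; exact HL) (by rw [← rk_eq_sec, H2])
  have H' : IsPullback g q π (Spec.map (CommRingCat.ofHom (algebraMap A Ω))) := by rw [ey]; exact H
  refine ⟨by rw [rk_eq_sec]; exact k2 Ω P g q H', ?_⟩
  have S1 := isPushout_appTop_of_isPullback HU
  have S2 := k1 Ω P g q H'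
  have S3 : IsPushout π.appTop yb.appTop g.appTop q.appTop := by
    refine IsPushout.of_iso S2.flip (Scheme.ΓSpecIso (CommRingCat.of A)).symm (Iso.refl _)
      (Scheme.ΓSpecIso (CommRingCat.of Ω)).symm (Iso.refl _) ?_ ?_ ?_ ?_
    · have h3 : (CommRingCat.ofHom (algebraMap A (Sec π (⊤ : Z.Opens))) : CommRingCat.of A ⟶ Γ(Z, ⊤)) =
          (Scheme.ΓSpecIso (CommRingCat.of A)).inv ≫ π.appTop := by
        apply CommRingCat.hom_ext
        exact secMap_eq π
      exact (Category.comp_id _).trans h3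
    · have h3 := Scheme.ΓSpecIso_inv_naturality (CommRingCat.ofHom (algebraMap A Ω))
      rw [ey] at h3
      exact h3
    · exact (Category.comp_id _).trans (Category.id_comp _).symm
    · have h3 : (CommRingCat.ofHom (algebraMap Ω (Sec q (⊤ : P.Opens))) : CommRingCat.of Ω ⟶ Γ(P, ⊤)) =
          (Scheme.ΓSpecIso (CommRingCat.of Ω)).inv ≫ q.appTop := by
        apply CommRingCat.hom_ext
        exact secMap_eq q
      exact (Category.comp_id _).trans h3
  have S4 : IsPushout (u.appTop ≫ ν.appTop) yb.appTop g.appTop (qU.appTop ≫ ν'.appTop) := by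
    rw [← Scheme.Hom.comp_appTop, ← Scheme.Hom.comp_appTop, hν, h2]
    exact S3
  have S5 := IsPushout.of_left S4 (by rw [← Scheme.Hom.comp_appTop, ← Scheme.Hom.comp_appTop, h1]) S1
  exact S5.isIso_inr_of_isIso

end

/-- Constancy of ranks and base change over an integral base. -/
theorem main {Z Y : Scheme.{u}} (h : Z ⟶ Y) [IsProper h] [Flat h] [IsIntegral Y] [IsLocallyNoetherian Y] (n : ℕ)
    (H1 : ∀ (Ω : Type u) [Field Ω] [IsAlgClosed Ω] (yb : Spec (CommRingCat.of Ω) ⟶ Y)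
      (P : Scheme.{u}) (g : P ⟶ Z) (q : P ⟶ Spec (CommRingCat.of Ω)), IsPullback g q h yb → rk q ≤ n)
    (L : Type u) [Field L] (ξ : Spec (CommRingCat.of L) ⟶ Y)
    (hξ : ∀ q, ξ.base q = genericPoint Y) {PL : Scheme.{u}} {gL : PL ⟶ Z}
    {qL : PL ⟶ Spec (CommRingCat.of L)} (HL : IsPullback gL qL h ξ) (H2 : rk qL = n)
    {U : Scheme.{u}} (ν : Z ⟶ U) (hν' : ∀ V : U.Opens, IsIso (ν.app V)) (u : U ⟶ Y) [IsAffineHom u] (hν : ν ≫ u = h)
    {Ω : Type u} [Field Ω] (yb : Spec (CommRingCat.of Ω) ⟶ Y) {P : Scheme.{u}} {g : P ⟶ Z}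
    {q : P ⟶ Spec (CommRingCat.of Ω)} (H : IsPullback g q h yb) {U' : Scheme.{u}} {gU : U' ⟶ U}
    {qU : U' ⟶ Spec (CommRingCat.of Ω)} (HU : IsPullback gU qU u yb) {ν' : P ⟶ U'} (h1 : ν' ≫ gU = g ≫ ν)
    (h2 : ν' ≫ qU = q) : rk q = n ∧ IsIso ν'.appTop := by
  obtain ⟨V, hV, hyV⟩ : ∃ V : Y.Opens, IsAffineOpen V ∧ yb.base (⊥ : PrimeSpectrum Ω) ∈ V := by
    have h3 : yb.base (⊥ : PrimeSpectrum Ω) ∈ (⊤ : Y.Opens) := trivial
    rw [← iSup_affineOpens_eq_top Y, TopologicalSpace.Opens.mem_iSup] at h3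
    obtain ⟨V, hV⟩ := h3
    exact ⟨V.1, V.2, hV⟩
  have hne : Nonempty V := ⟨⟨_, hyV⟩⟩
  let A : Type u := Γ(Y, V)
  letI : CommRing A := inferInstanceAs (CommRing Γ(Y, V))
  haveI : IsDomain A := inferInstanceAs (IsDomain Γ(Y, V))
  haveI : IsNoetherianRing A := IsLocallyNoetherian.component_noetherian ⟨V, hV⟩
  let i : Spec (CommRingCat.of A) ⟶ Y := hV.fromSpec
  haveI : IsOpenImmersion i := inferInstanceAs (IsOpenImmersion hV.fromSpec)
  have hi : Set.range i.base = (V : Set Y) := hV.range_fromSpec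
  have hgen : ∀ {L : Type u} [Field L] (ξ : Spec (CommRingCat.of L) ⟶ Y), (∀ q, ξ.base q ∈ V) →
      ∃ ξ' : Spec (CommRingCat.of L) ⟶ Spec (CommRingCat.of A), ξ' ≫ i = ξ := by
    intro L _ ξ hξ
    have h3 : Set.range ξ.base ⊆ Set.range i.base := by
      rw [hi]
      rintro _ ⟨q, rfl⟩
      exact hξ q
    exact ⟨IsOpenImmersion.lift i ξ h3, IsOpenImmersion.lift_fac _ _ _⟩
  obtain ⟨yb', rfl⟩ := hgen yb (fun q => by
    have : q = (⊥ : PrimeSpectrum Ω) := Subsingleton.elim (α := PrimeSpectrum Ω) _ _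
    rw [this]
    exact hyV)
  obtain ⟨ξ', rfl⟩ := hgen ξ (fun q => by
    rw [hξ]
    exact ((genericPoint_spec Y).mem_open_set_iff V.isOpen).mpr ⟨_, ⟨trivial, hyV⟩⟩)
  have hξ' : ∀ q, ξ'.base q = genericPoint (Spec (CommRingCat.of A)) := by
    intro q
    apply i.isOpenEmbedding.injective
    have h3 := genericPoint_eq_of_isOpenImmersion i
    exact (hξ q).trans h3.symm
  have sqZ := IsPullback.of_hasPullback h i
  have sqU := IsPullback.of_hasPullback u i
  let νA : pullback h i ⟶ pullback u i := pullback.lift (pullback.fst h i ≫ ν) (pullback.snd h i) (by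
    rw [Category.assoc, hν, pullback.condition])
  have e1 : νA ≫ pullback.fst u i = pullback.fst h i ≫ ν := pullback.lift_fst _ _ _
  have e2 : νA ≫ pullback.snd u i = pullback.snd h i := pullback.lift_snd _ _ _
  have sqν : IsPullback (pullback.fst h i) νA ν (pullback.fst u i) := by
    refine IsPullback.of_bot (h₃₁ := i) (v₂₁ := pullback.snd u i) (v₂₂ := u) ?_ e1.symm sqU
    rw [e2, hν]
    exact sqZ
  have hiso : IsIso νA.appTop := isIso_appTop_of_isPullback hν' sqν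
  have hA : IsAffine (pullback u i) := isAffine_of_isAffineHom (pullback.snd u i)
  obtain ⟨gA, eA1, eA2⟩ : ∃ gA : P ⟶ pullback h i, gA ≫ pullback.fst h i = g ∧ gA ≫ pullback.snd h i = q ≫ yb' :=
    ⟨pullback.lift g (q ≫ yb') (by rw [H.w, Category.assoc]), pullback.lift_fst _ _ _, pullback.lift_snd _ _ _⟩
  obtain ⟨gB, eB1, eB2⟩ : ∃ gB : U' ⟶ pullback u i, gB ≫ pullback.fst u i = gU ∧ gB ≫ pullback.snd u i = qU ≫ yb' :=
    ⟨pullback.lift gU (qU ≫ yb') (by rw [HU.w, Category.assoc]), pullback.lift_fst _ _ _, pullback.lift_snd _ _ _⟩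
  obtain ⟨gC, eC1, eC2⟩ : ∃ gC : PL ⟶ pullback h i, gC ≫ pullback.fst h i = gL ∧ gC ≫ pullback.snd h i = qL ≫ ξ' :=
    ⟨pullback.lift gL (qL ≫ ξ') (by rw [HL.w, Category.assoc]), pullback.lift_fst _ _ _, pullback.lift_snd _ _ _⟩
  refine affine (pullback.snd h i) n (fun Ω _ _ yb P g q sq => H1 Ω (yb ≫ i) P _ q (sq.paste_horiz sqZ)) L ξ' hξ'
    (gL := gC) (qL := qL) ?_ H2 νA (pullback.snd u i) e2 yb' (g := gA) (q := q) ?_ (gU := gB) (qU := qU) ?_ (ν' := ν')
    ?_ h2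
  · exact IsPullback.of_right (by rw [eC1]; exact HL) eC2 sqZ
  · exact IsPullback.of_right (by rw [eA1]; exact H) eA2 sqZ
  · exact IsPullback.of_right (by rw [eB1]; exact HU) eB2 sqU
  · apply pullback.hom_ext
    · rw [Category.assoc, eB1, h1, Category.assoc, e1, ← Category.assoc, eA1]
    · rw [Category.assoc, eB2, ← Category.assoc, h2, Category.assoc, e2, eA2]

end K996.Chart
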