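import Groth.Agent.NoriFGS.K996.Ptd

/-!
# A criterion for the induced homomorphism of fundamental group schemes to be a closed immersion
-/

set_option autoImplicit false
universe u
open CategoryTheory CategoryTheory.Limits MonoidalCategory CartesianMonoidalCategory MonObj GrpObj AlgebraicGeometry

namespace K996.ClosedImm

open AlgGrp AlgGrp.Action K996.Pts K996.KAct K996.Sub K996.LocSplit K996.Conj K996.Induced K996.NR K996.Ptd NoriFGS

theorem isClosedImmersion_of_sub
    (k : Type u) [Field k] (X Y : Scheme.{u})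
    [X.Over (Spec (CommRingCat.of k))] [Y.Over (Spec (CommRingCat.of k))]
    (x : Spec (CommRingCat.of k) ⟶ X) (y : Spec (CommRingCat.of k) ⟶ Y)
    (hx : x ≫ (X ↘ Spec (CommRingCat.of k)) = 𝟙 _)
    (f : X ⟶ Y) (hf : f ≫ (Y ↘ Spec (CommRingCat.of k)) = X ↘ Spec (CommRingCat.of k)) (hfx : x ≫ f = y)
    (πX πY : Over (Spec (CommRingCat.of k))) [GrpObj πX] [GrpObj πY] (PX : Over X) (PY : Over Y)
    (aX : AlgGrp.Action (Red.bc (X ↘ Spec (CommRingCat.of k)) πX) PX)
    (aY : AlgGrp.Action (Red.bc (Y ↘ Spec (CommRingCat.of k)) πY) PY)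
    (pX : Spec (CommRingCat.of k) ⟶ PX.left) (pY : Spec (CommRingCat.of k) ⟶ PY.left)
    (hX : NoriFGS.IsFGS x πX aX pX) (hY : NoriFGS.IsFGS y πY aY pY)
    (φ : πX ⟶ πY) (hφ : NoriFGS.IsInducedHom f hf aX pX aY pY φ)
    (hsub : ∀ (G : Over (Spec (CommRingCat.of k))) [GrpObj G] [IsFinite G.hom] (T : Over X)
      (b : AlgGrp.Action (Red.bc (X ↘ Spec (CommRingCat.of k)) G) T) (t : Spec (CommRingCat.of k) ⟶ T.left),
      NonAbH1.IsTorsorFor Scheme.fpqcPrecoverage b → t ≫ T.hom = x →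
      NoriFGS.IsNoriReduced Scheme.fpqcPrecoverage b →
      ∃ (H : Over (Spec (CommRingCat.of k))) (_ : GrpObj H) (_ : IsFinite H.hom) (U : Over Y)
        (c : AlgGrp.Action (Red.bc (Y ↘ Spec (CommRingCat.of k)) H) U) (u : Spec (CommRingCat.of k) ⟶ U.left)
        (i : G ⟶ H) (_ : IsMonHom i) (_ : IsClosedImmersion i.left) (j : T ⟶ Red.bc f U),
        NonAbH1.IsTorsorFor Scheme.fpqcPrecoverage c ∧ u ≫ U.hom = y ∧
        AlgGrp.Action.IsEquivariant b
          (((c.bc f).restrict (ActBC.bcCompIso f (Y ↘ Spec (CommRingCat.of k)) H hf).inv).restrict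
            ((Over.pullback (X ↘ Spec (CommRingCat.of k))).map i)) j ∧
        t ≫ j.left ≫ pullback.fst U.hom f = u) :
    IsClosedImmersion φ.left := by
  obtain ⟨hφm, g, hg, hgp⟩ := hφ
  have hAX : IsAffine πX.left := Group.isAffine_of_isProFinite hX.1
  have hAY : IsAffine πY.left := Group.isAffine_of_isProFinite hY.1
  apply IsClosedImmersion.of_surjective_of_isAffine
  intro s
  obtain ⟨D, _, _, ψ, _, t, ht⟩ := Group.exists_finite_quotient hX.1 (J := Unit) (fun _ => s)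
  have hAD : IsAffine D.left := isAffine_of_isAffineHom D.hom
  obtain ⟨G, _, i₀, _, _, ψ', _, hψ, hinj, -, -, hAG⟩ := Group.exists_image ψ
  have hGf : IsFinite G.hom := isFinite_of_isClosedImmersion i₀
  obtain ⟨T, b, r, hb, hr⟩ := exists_push hX.2.1 ψ'
  have hT : (pX ≫ r.left) ≫ T.hom = x := by rw [Category.assoc, Over.w, hX.2.2.1]
  have hPT : IsPtTorsorHom aX pX b (pX ≫ r.left) ψ' r := ⟨hr, rfl⟩
  have hNR := isNoriReduced_of_inj hx hX hb hT hPT hinj
  obtain ⟨H, _, _, U, c, u, i, _, _, j, hc, hu, hj, hju⟩ := hsub G T b _ hb hT hNR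
  have hAH : IsAffine H.left := isAffine_of_isAffineHom H.hom
  obtain ⟨χ, _, r', hr', -⟩ := hY.2.2.2 H U c u hc hu
  have h1 := isPtTorsorHom_induced hf hfx hu hX.2.2.1 hg hgp hr'
  have h2 : IsPtTorsorHom aX pX (pb f hf c) (ptp hfx hu) (ψ' ≫ i) (r ≫ j) :=
    isPtTorsorHom_comp hPT hj (ptp_unique hfx hu _ (by rw [← hju]; simp only [Category.assoc])
      (by
        have e : j.left ≫ (Red.bc f U).hom = T.hom := Over.w j
        rw [Category.assoc, e, hT]))
  have h3 := (fgs_unique hX (pb_isTorsorFor f hf _ hc) (ptp_hom hfx hu) h2 h1).1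
  obtain ⟨t', ht'⟩ := (IsClosedImmersion.isAffine_surjective_of_isAffine i.left).2 (i₀.left.appTop (t ()))
  refine ⟨χ.left.appTop t', ?_⟩
  have e1 : χ.left.appTop ≫ φ.left.appTop = i.left.appTop ≫ ψ'.left.appTop := by
    rw [← Scheme.Hom.comp_appTop, ← Scheme.Hom.comp_appTop, ← Over.comp_left, ← Over.comp_left, h3]
  have e2 : i₀.left.appTop ≫ ψ'.left.appTop = ψ.left.appTop := by
    rw [← hψ, Over.comp_left, Scheme.Hom.comp_appTop]
  have e3 : φ.left.appTop (χ.left.appTop t') = ψ'.left.appTop (i.left.appTop t') :=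
    congrArg (fun z => z.hom t') e1
  rw [e3, ht', ← ht ()]
  exact congrArg (fun z => z.hom (t ())) e2

end K996.ClosedImm
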