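import Groth.Agent.S4101
import Mathlib.RingTheory.TensorProduct.IsBaseChangeFree

/-!
# The closed locus over which a closed subscheme of `B × W` contains `B`

`B` affine over a field `k`, `W` any `k`-scheme, `j : Z ⟶ B ⊗ W` a closed immersion; `exists_closed` : the points
`w : T ⟶ W` such that `(b, w)` lies in `Z` for all points `b` of `B` with values in `T`-schemes form a closed
subscheme of `W`.
-/

set_option autoImplicit false
set_option linter.style.haveILetI false
universe u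
open CategoryTheory CategoryTheory.Limits MonoidalCategory CartesianMonoidalCategory MonObj GrpObj AlgebraicGeometry

namespace K996.Rep

theorem free_of_isPullback {P X Y S : Scheme.{u}} {fst : P ⟶ X} {snd : P ⟶ Y} {f : X ⟶ S}
    {g : Y ⟶ S} [IsAffine X] [IsAffine Y] [IsAffine S] (h : IsPullback fst snd f g) (hS : IsField Γ(S, ⊤)) :
    letI := snd.appTop.hom.toAlgebra
    Module.Free Γ(Y, ⊤) Γ(P, ⊤) := by
  have h1 := isPushout_appTop_of_isPullback h
  letI a1 : Algebra Γ(S, ⊤) Γ(X, ⊤) := f.appTop.hom.toAlgebra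
  letI a2 : Algebra Γ(S, ⊤) Γ(Y, ⊤) := g.appTop.hom.toAlgebra
  letI a3 : Algebra Γ(X, ⊤) Γ(P, ⊤) := fst.appTop.hom.toAlgebra
  letI a4 : Algebra Γ(Y, ⊤) Γ(P, ⊤) := snd.appTop.hom.toAlgebra
  letI a5 : Algebra Γ(S, ⊤) Γ(P, ⊤) := (g.appTop ≫ snd.appTop).hom.toAlgebra
  haveI t1 : IsScalarTower Γ(S, ⊤) Γ(Y, ⊤) Γ(P, ⊤) := IsScalarTower.of_algebraMap_eq' rfl
  haveI t2 : IsScalarTower Γ(S, ⊤) Γ(X, ⊤) Γ(P, ⊤) :=
    IsScalarTower.of_algebraMap_eq' (congrArg CommRingCat.Hom.hom h1.w).symm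
  have h2 : Algebra.IsPushout Γ(S, ⊤) Γ(X, ⊤) Γ(Y, ⊤) Γ(P, ⊤) :=
    (CommRingCat.isPushout_iff_isPushout (R := Γ(S, ⊤)) (S := Γ(Y, ⊤)) (R' := Γ(X, ⊤)) (S' := Γ(P, ⊤))).mp h1
  letI := hS.toField
  have h3 : Module.Free Γ(S, ⊤) Γ(X, ⊤) := Module.Free.of_divisionRing _ _
  exact h2.symm.out.free

theorem isEssentiallyFree {Z W B S : Scheme.{u}} {g : Z ⟶ B} {f : Z ⟶ W} {b : B ⟶ S} {w : W ⟶ S}
    (H : IsPullback g f b w) [IsAffine B] [IsAffine S] (hS : IsField Γ(S, ⊤)) : SGA3x.IsEssentiallyFree f := by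
  intro s
  obtain ⟨U, hU, hsU⟩ : ∃ U : W.Opens, IsAffineOpen U ∧ s ∈ U := by
    obtain ⟨_, ⟨U, hU, rfl⟩, hsU, -⟩ :=
      W.isBasis_affineOpens.exists_subset_of_mem_open (Set.mem_univ s) isOpen_univ
    exact ⟨U, hU, hsU⟩
  have hUa : IsAffine U := hU
  have H1 := (IsPullback.of_hasPullback f (𝟙 (U : Scheme.{u}) ≫ U.ι)).paste_horiz H
  have : IsAffine (pullback f (𝟙 (U : Scheme.{u}) ≫ U.ι)) := IsAffine.of_isPullback H1.flip
  refine ⟨U, hsU, hU, U, hU, 𝟙 _, inferInstance, inferInstance, fun x => ⟨⊤, trivial, isAffineOpen_top _, ?_⟩⟩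
  have hι : IsIso (⊤ : (pullback f (𝟙 (U : Scheme.{u}) ≫ U.ι)).Opens).ι :=
    inferInstanceAs (IsIso (Scheme.topIso _).hom)
  have H2 : IsPullback (⊤ : (pullback f (𝟙 (U : Scheme.{u}) ≫ U.ι)).Opens).ι
      ((⊤ : (pullback f (𝟙 (U : Scheme.{u}) ≫ U.ι)).Opens).ι ≫ pullback.snd f (𝟙 (U : Scheme.{u}) ≫ U.ι))
      (pullback.snd f (𝟙 (U : Scheme.{u}) ≫ U.ι)) (𝟙 _) := IsPullback.of_horiz_isIso ⟨by simp⟩
  have H3 := free_of_isPullback (H2.paste_horiz H1) hS
  letI := ((⊤ : (pullback f (𝟙 (U : Scheme.{u}) ≫ U.ι)).Opens).ι ≫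
    pullback.snd f (𝟙 (U : Scheme.{u}) ≫ U.ι)).appTop.hom.toAlgebra
  exact Module.Projective.of_free

theorem isField_Γ (k : Type u) [Field k] : IsField Γ(Spec (CommRingCat.of k), ⊤) :=
  MulEquiv.isField (Field.toIsField k)
    (Scheme.ΓSpecIso (CommRingCat.of k)).commRingCatIsoToRingEquiv.toMulEquiv

/-- The closed locus in `W` over which `Z ⊆ B × W` contains all of `B`. -/
theorem exists_closed {k : Type u} [Field k] {B W Z : Over (Spec (CommRingCat.of k))} [IsAffine B.left]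
    (j : Z ⟶ B ⊗ W) [IsClosedImmersion j.left] :
    ∃ (W' : Over (Spec (CommRingCat.of k))) (m : W' ⟶ W), IsClosedImmersion m.left ∧
      ∀ (T : Over (Spec (CommRingCat.of k))) (w : T ⟶ W), (∃ w' : T ⟶ W', w' ≫ m = w) ↔
        ∀ (T' : Over (Spec (CommRingCat.of k))) (s : T' ⟶ T) (b : T' ⟶ B), ∃ z : T' ⟶ Z, z ≫ j = lift b (s ≫ w) := by
  have H : IsPullback (pullback.fst B.hom W.hom) (snd B W).left B.hom W.hom := IsPullback.of_hasPullback _ _
  have hef := isEssentiallyFree H (isField_Γ k)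
  obtain ⟨W', m, hm, hmT, -⟩ := Groth.Agent.S4101.result _ _ _ (snd B W).left hef j.left
  refine ⟨Over.mk (m ≫ W.hom), Over.homMk m rfl, hm, fun T w => ?_⟩
  have h1 : (∃ w' : T ⟶ Over.mk (m ≫ W.hom), w' ≫ (Over.homMk m rfl : Over.mk (m ≫ W.hom) ⟶ W) = w) ↔
      ∃ g' : T.left ⟶ W', g' ≫ m = w.left := by
    constructor
    · rintro ⟨w', hw'⟩
      exact ⟨w'.left, congrArg (fun x => x.left) hw'⟩
    · rintro ⟨g', hg'⟩
      refine ⟨Over.homMk g' ?_, ?_⟩
      · change g' ≫ m ≫ W.hom = T.hom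
        rw [← Category.assoc, hg', Over.w]
      · ext; exact hg'
  rw [h1, hmT]
  constructor
  · intro hiso T' s b
    -- the point `(b, s ≫ w)` of `B ⊗ W` lifts to the pullback
    let x : T'.left ⟶ pullback (snd B W).left w.left := pullback.lift (lift b (s ≫ w)).left s.left (by
      rw [← Over.comp_left, lift_snd, Over.comp_left])
    let y : T'.left ⟶ Z.left := x ≫ inv (pullback.snd j.left (pullback.fst (snd B W).left w.left)) ≫
      pullback.fst j.left (pullback.fst (snd B W).left w.left)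
    have hy : y ≫ j.left = (lift b (s ≫ w)).left := by
      simp only [y, Category.assoc]
      rw [pullback.condition, IsIso.inv_hom_id_assoc, pullback.lift_fst]
    refine ⟨Over.homMk y ?_, ?_⟩
    · rw [← Over.w j, ← Category.assoc, hy, Over.w]
    · apply Over.OverMorphism.ext; exact hy
  · intro h
    -- apply to the universal point
    let T' : Over (Spec (CommRingCat.of k)) := Over.mk (pullback.snd (snd B W).left w.left ≫ T.hom)
    let s : T' ⟶ T := Over.homMk (pullback.snd (snd B W).left w.left) rfl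
    have hw : pullback.fst (snd B W).left w.left ≫ (B ⊗ W).hom = T'.hom := by
      change _ = pullback.snd (snd B W).left w.left ≫ T.hom
      rw [← Over.w w, ← Over.w (snd B W), ← Category.assoc, pullback.condition, Category.assoc]
    let y : T' ⟶ B ⊗ W := Over.homMk (pullback.fst (snd B W).left w.left) hw
    have hy2 : y ≫ snd B W = s ≫ w := by
      ext1; exact pullback.condition
    obtain ⟨z, hz⟩ := h T' s (y ≫ fst B W)
    rw [← hy2, ← comp_lift, lift_fst_snd, Category.comp_id] at hz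
    have hz' : z.left ≫ j.left = pullback.fst (snd B W).left w.left := congrArg (fun x => x.left) hz
    -- a monomorphism with a section is an isomorphism
    have hmono : Mono (pullback.snd j.left (pullback.fst (snd B W).left w.left)) := inferInstance
    let σ : pullback (snd B W).left w.left ⟶ pullback j.left (pullback.fst (snd B W).left w.left) :=
      pullback.lift z.left (𝟙 _) (by rw [hz', Category.id_comp])
    have hσ : σ ≫ pullback.snd j.left (pullback.fst (snd B W).left w.left) = 𝟙 _ := pullback.lift_snd _ _ _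
    exact ⟨⟨σ, by rw [← cancel_mono (pullback.snd j.left (pullback.fst (snd B W).left w.left)), Category.assoc, hσ,
      Category.comp_id, Category.id_comp], hσ⟩⟩

end K996.Rep
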