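import Groth.Agent.NoriFGS.K996.Sub
import Groth.Agent.NoriFGS.K996.Rep

/-!
# The conjugate sub-torsor through a marked point

`V` an `H`-torsor over `X` with a marked point `v` over `x`, `V' ⊆ V` an `H'`-sub-torsor (`H' ⊆ H` closed).  There are a closed
subgroup `H'' ⊆ H` (a conjugate of `H'`, locally) and an `H''`-sub-torsor `V'' ⊆ V` through `v`; if `H'' = H` then
`V' = V`.
-/

set_option autoImplicit false
universe u
open CategoryTheory CategoryTheory.Limits MonoidalCategory CartesianMonoidalCategory MonObj GrpObj AlgebraicGeometry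

namespace K996.Conj

open AlgGrp AlgGrp.Action K996.Pts K996.KAct K996.Sub K996.LocSplit

section basic

variable {S X : Scheme.{u}} {q : X ⟶ S} {G H : Over S} [GrpObj G] [GrpObj H] {P V : Over X}

theorem free_of_isPseudoTorsorSch {c : Action (Red.bc q H) V} (hc : NonAbH1.IsPseudoTorsorSch c) {T : Over S}
    {g h : T ⟶ H} {w : T ⟶ (Over.map q).obj V} (e : sm (kact q c) g w = sm (kact q c) h w) : g = h := by
  rw [isPseudoTorsorSch_iff_kact] at hc
  exact (hc T w (sm (kact q c) h w) (sm_kact_pr q c h w).symm).unique e rfl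

theorem trans_of_isPseudoTorsorSch {c : Action (Red.bc q H) V} (hc : NonAbH1.IsPseudoTorsorSch c) {T : Over S}
    (w w' : T ⟶ (Over.map q).obj V) (e : w ≫ pr q V = w' ≫ pr q V) : ∃ g : T ⟶ H, sm (kact q c) g w = w' := by
  rw [isPseudoTorsorSch_iff_kact] at hc
  exact (hc T w w' e).exists

/-- The marked point over the base. -/
noncomputable def mk {V : Over X} {x : S ⟶ X} (hx : x ≫ q = 𝟙 S) (v : S ⟶ V.left) (hv : v ≫ V.hom = x) (T : Over S) :
    T ⟶ (Over.map q).obj V :=
  Over.homMk (T.hom ≫ v) (by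
    change (T.hom ≫ v) ≫ V.hom ≫ q = T.hom
    rw [Category.assoc, ← Category.assoc v, hv, hx, Category.comp_id])

theorem comp_mk {V : Over X} {x : S ⟶ X} (hx : x ≫ q = 𝟙 S) (v : S ⟶ V.left) (hv : v ≫ V.hom = x) {T T' : Over S}
    (f : T' ⟶ T) : f ≫ mk hx v hv T = mk hx v hv T' := by
  apply Over.OverMorphism.ext
  change f.left ≫ T.hom ≫ v = T'.hom ≫ v
  rw [← Category.assoc, Over.w]

theorem mk_pr {V : Over X} {x : S ⟶ X} (hx : x ≫ q = 𝟙 S) (v : S ⟶ V.left) (hv : v ≫ V.hom = x) (T : Over S) :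
    (mk hx v hv T ≫ pr q V).left = T.hom ≫ x := by
  change (T.hom ≫ v) ≫ V.hom = _
  rw [Category.assoc, hv]

/-- Membership in a closed subobject descends along locally split morphisms. -/
theorem fac_desc {Z W T T' : Over S} (m : Z ⟶ W) [IsClosedImmersion m.left] (s : T' ⟶ T) (hs : LS s.left) (t : T ⟶ W)
    (h : Fac m (s ≫ t)) : Fac m t := by
  obtain ⟨z, hz⟩ := h
  obtain ⟨z', hz'⟩ := hs.lift_mono m.left t.left z.left (congrArg (fun x => x.left) hz)
  refine ⟨Over.homMk z' ?_, ?_⟩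
  · rw [← Over.w m, ← Category.assoc, hz', Over.w]
  · apply Over.OverMorphism.ext
    exact hz'

/-- A cover of `T` over which `B` has a point. -/
theorem exists_point {B : Over S} (hB : LS B.hom) (T : Over S) : ∃ (T' : Over S) (s : T' ⟶ T) (_ : T' ⟶ B), LS s.left :=
  ⟨Over.mk (pullback.fst T.hom B.hom ≫ T.hom), Over.homMk (pullback.fst T.hom B.hom) rfl,
    Over.homMk (pullback.snd T.hom B.hom) pullback.condition.symm,
    hB.bc (IsPullback.of_hasPullback T.hom B.hom).flip⟩

end basic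

section main

variable {k : Type u} [Field k] {X : Scheme.{u}} {q : X ⟶ Spec (CommRingCat.of k)}
  {H H' : Over (Spec (CommRingCat.of k))} [GrpObj H] [GrpObj H'] {V V' : Over X}
  {c : Action (Red.bc q H) V} {b : Action (Red.bc q H') V'} {i' : H' ⟶ H} [IsMonHom i'] {j : V' ⟶ V}

/-- Transitivity on points of the sub-torsor. -/
theorem sub_trans (hb : NonAbH1.IsPseudoTorsorSch b)
    (hj : IsEquivariant b (c.restrict ((Over.pullback q).map i')) j) {T : Over (Spec (CommRingCat.of k))}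
    {w w' : T ⟶ (Over.map q).obj V} (hw : Fac ((Over.map q).map j) w) (hw' : Fac ((Over.map q).map j) w')
    (e : w ≫ pr q V = w' ≫ pr q V) : ∃ g : T ⟶ H', sm (kact q c) (g ≫ i') w = w' := by
  obtain ⟨z, rfl⟩ := hw
  obtain ⟨z', rfl⟩ := hw'
  rw [Category.assoc, map_pr, Category.assoc, map_pr] at e
  obtain ⟨g, hg⟩ := trans_of_isPseudoTorsorSch hb z z' e
  refine ⟨g, ?_⟩
  rw [isEquivariant_iff_kact] at hj
  rw [← hj, hg]

theorem sub_stable (hj : IsEquivariant b (c.restrict ((Over.pullback q).map i')) j)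
    {T : Over (Spec (CommRingCat.of k))} {w : T ⟶ (Over.map q).obj V} (hw : Fac ((Over.map q).map j) w) (g : T ⟶ H') :
    Fac ((Over.map q).map j) (sm (kact q c) (g ≫ i') w) := by
  obtain ⟨z, rfl⟩ := hw
  rw [isEquivariant_iff_kact] at hj
  exact ⟨_, hj T g z⟩

variable {x : Spec (CommRingCat.of k) ⟶ X}

/-- The closed subscheme of `H` of points carrying `v` into the sub-torsor. -/
theorem exists_B [IsClosedImmersion j.left] (hc : NonAbH1.IsPseudoTorsorSch c)
    (hb : NonAbH1.IsTorsorFor Scheme.fpqcPrecoverage b) (hx : x ≫ q = 𝟙 _) (v : Spec (CommRingCat.of k) ⟶ V.left)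
    (hv : v ≫ V.hom = x) :
    ∃ (B : Over (Spec (CommRingCat.of k))) (β : B ⟶ H), IsClosedImmersion β.left ∧ LS B.hom ∧
      ∀ (T : Over (Spec (CommRingCat.of k))) (h : T ⟶ H),
        Fac β h ↔ Fac ((Over.map q).map j) (sm (kact q c) h (mk hx v hv T)) := by
  have : IsClosedImmersion ((Over.map q).map j).left := inferInstanceAs (IsClosedImmersion j.left)
  obtain ⟨B, β, hβ, hβT⟩ := exists_preimage (sm (kact q c) (𝟙 H) (mk hx v hv H)) ((Over.map q).map j)
  have hβT' : ∀ (T : Over (Spec (CommRingCat.of k))) (h : T ⟶ H),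
        Fac β h ↔ Fac ((Over.map q).map j) (sm (kact q c) h (mk hx v hv T)) := by
    intro T h
    rw [hβT, comp_sm, comp_mk, Category.comp_id]
  refine ⟨B, β, hβ, ?_, hβT'⟩
  let T₀ : Over (Spec (CommRingCat.of k)) := Over.mk (pullback.snd V'.hom x)
  have hT₀ : LS T₀.hom := (show LS V'.hom from hb.2).bc' x
  let w₀ : T₀ ⟶ (Over.map q).obj V' := Over.homMk (pullback.fst V'.hom x) (by
    change pullback.fst V'.hom x ≫ V'.hom ≫ q = pullback.snd V'.hom x
    rw [← Category.assoc, pullback.condition, Category.assoc, hx, Category.comp_id])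
  obtain ⟨h₀, hh₀⟩ := trans_of_isPseudoTorsorSch hc (mk hx v hv T₀) (w₀ ≫ (Over.map q).map j) (by
    apply Over.OverMorphism.ext
    rw [mk_pr, Category.assoc, map_pr]
    exact pullback.condition.symm)
  obtain ⟨y, -⟩ := (hβT' T₀ h₀).mpr ⟨w₀, hh₀.symm⟩
  exact LS.of_comp (ρ := y.left) (by rw [Over.w]; exact hT₀)

/-- The closed locus of points `w` with `B w ⊆ Z`. -/
theorem exists_transporter {B Z W M : Over (Spec (CommRingCat.of k))} [IsAffine B.left] (f : B ⊗ W ⟶ M) (m : Z ⟶ M)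
    [IsClosedImmersion m.left] :
    ∃ (W' : Over (Spec (CommRingCat.of k))) (i : W' ⟶ W), IsClosedImmersion i.left ∧
      ∀ (T : Over (Spec (CommRingCat.of k))) (w : T ⟶ W), Fac i w ↔
        ∀ (T' : Over (Spec (CommRingCat.of k))) (s : T' ⟶ T) (b : T' ⟶ B), Fac m (lift b (s ≫ w) ≫ f) := by
  obtain ⟨Z', m', hm', hZ'⟩ := exists_preimage f m
  obtain ⟨W', i, hi, hW'⟩ := Rep.exists_closed m'
  refine ⟨W', i, hi, fun T w => ?_⟩
  refine (hW' T w).trans ?_
  constructor
  · intro h T' s b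
    exact (hZ' T' _).mp (h T' s b)
  · intro h T' s b
    exact (hZ' T' _).mpr (h T' s b)

theorem exists_conj [IsFinite H.hom] [IsClosedImmersion j.left] (hc : NonAbH1.IsPseudoTorsorSch c)
    (hb : NonAbH1.IsTorsorFor Scheme.fpqcPrecoverage b)
    (hj : IsEquivariant b (c.restrict ((Over.pullback q).map i')) j) (hx : x ≫ q = 𝟙 _)
    (v : Spec (CommRingCat.of k) ⟶ V.left) (hv : v ≫ V.hom = x) :
    ∃ (H'' : Over (Spec (CommRingCat.of k))) (_ : GrpObj H'') (i : H'' ⟶ H) (_ : IsMonHom i)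
      (_ : IsClosedImmersion i.left) (V'' : Over X) (j'' : V'' ⟶ V) (b'' : Action (Red.bc q H'') V'')
      (v'' : Spec (CommRingCat.of k) ⟶ V''.left), NonAbH1.IsTorsorFor Scheme.fpqcPrecoverage b'' ∧
        v'' ≫ j''.left = v ∧ IsEquivariant b'' (c.restrict ((Over.pullback q).map i)) j'' ∧ (IsIso i → IsIso j) := by
  obtain ⟨B, β, hβ, hB, hβT⟩ := exists_B (j := j) hc hb hx v hv
  have hjc : IsClosedImmersion ((Over.map q).map j).left := inferInstanceAs (IsClosedImmersion j.left)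
  have hHa : IsAffine H.left := isAffine_of_isAffineHom H.hom
  have hBa : IsAffine B.left := isAffine_of_isAffineHom β.left
  -- facts on `B`
  have A1 : ∀ {T : Over (Spec (CommRingCat.of k))} {b₁ b₂ : T ⟶ H}, Fac β b₁ → Fac β b₂ →
      ∃ g : T ⟶ H', (g ≫ i') * b₁ = b₂ := by
    intro T b₁ b₂ h₁ h₂
    obtain ⟨g, hg⟩ := sub_trans hb.1 hj ((hβT _ _).mp h₁) ((hβT _ _).mp h₂) (by rw [sm_kact_pr, sm_kact_pr])
    rw [← sm_mul] at hg
    exact ⟨g, free_of_isPseudoTorsorSch hc hg⟩
  have A2 : ∀ {T : Over (Spec (CommRingCat.of k))} {b₁ : T ⟶ H} (g : T ⟶ H'), Fac β b₁ →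
      Fac β ((g ≫ i') * b₁) := by
    intro T b₁ g h₁
    rw [hβT, sm_mul]
    exact sub_stable hj ((hβT _ _).mp h₁) g
  -- the conjugate subgroup
  obtain ⟨H'', i, hi, hiT⟩ := exists_transporter (lift (fst B H ≫ β) (snd B H) ≫ μ[H]) β
  have hiT' : ∀ (T : Over (Spec (CommRingCat.of k))) (h : T ⟶ H), Fac i h ↔
        ∀ (T' : Over (Spec (CommRingCat.of k))) (s : T' ⟶ T) (b₁ : T' ⟶ H), Fac β b₁ → Fac β (b₁ * (s ≫ h)) := by
    intro T h
    rw [hiT]
    have e : ∀ (T' : Over (Spec (CommRingCat.of k))) (s : T' ⟶ T) (y : T' ⟶ B),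
        lift y (s ≫ h) ≫ lift (fst B H ≫ β) (snd B H) ≫ μ[H] = (y ≫ β) * (s ≫ h) := by
      intro T' s y
      rw [comp_lift_assoc, ← Category.assoc, lift_fst, lift_snd, Hom.mul_def]
    constructor
    · rintro h1 T' s _ ⟨y, rfl⟩
      rw [← e]
      exact h1 T' s y
    · intro h1 T' s y
      rw [e]
      exact h1 T' s _ ⟨y, rfl⟩
  have hiM : Mono i := mono_of_left i
  obtain ⟨_, hiG⟩ := exists_grpObj i
    (by
      intro T g h hg hh
      rw [hiT'] at hg hh ⊢
      intro T' s b₁ h₁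
      rw [comp_mul, ← _root_.mul_assoc]
      exact hh T' s _ (hg T' s _ h₁))
    (by
      intro T
      rw [hiT']
      intro T' s b₁ h₁
      rw [comp_one, _root_.mul_one]
      exact h₁)
    (by
      intro T g hg
      rw [hiT'] at hg ⊢
      intro T' s b₁ h₁
      obtain ⟨g', hg'⟩ := A1 h₁ (hg T' s _ h₁)
      have h2 : b₁ * (s ≫ g⁻¹) = ((g'⁻¹) ≫ i') * b₁ := by
        have h3 : (g'⁻¹) ≫ i' = (g' ≫ i')⁻¹ := inv_comp _ _
        rw [comp_inv, h3, eq_inv_mul_iff_mul_eq, ← _root_.mul_assoc, hg', _root_.mul_assoc, mul_inv_cancel,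
          _root_.mul_one]
      rw [h2]
      exact A2 _ h₁)
  -- the sub-torsor
  obtain ⟨W, m, hm, hmT⟩ := exists_transporter
    (sm (kact q c) (fst B ((Over.map q).obj V) ≫ β) (snd B ((Over.map q).obj V))) ((Over.map q).map j)
  have hmT' : ∀ (T : Over (Spec (CommRingCat.of k))) (w : T ⟶ (Over.map q).obj V), Fac m w ↔
        ∀ (T' : Over (Spec (CommRingCat.of k))) (s : T' ⟶ T) (b₁ : T' ⟶ H), Fac β b₁ →
          Fac ((Over.map q).map j) (sm (kact q c) b₁ (s ≫ w)) := by
    intro T w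
    rw [hmT]
    constructor
    · rintro h1 T' s _ ⟨y, rfl⟩
      have := h1 T' s y
      rwa [comp_sm, ← Category.assoc, lift_fst, lift_snd] at this
    · intro h1 T' s y
      rw [comp_sm, ← Category.assoc, lift_fst, lift_snd]
      exact h1 T' s _ ⟨y, rfl⟩
  let V'' : Over X := Over.mk (m.left ≫ V.hom)
  let j'' : V'' ⟶ V := Over.homMk m.left rfl
  have hj''c : IsClosedImmersion ((Over.map q).map j'').left := hm
  have hj''c' : IsClosedImmersion j''.left := hm
  have hj''T : ∀ (T : Over (Spec (CommRingCat.of k))) (w : T ⟶ (Over.map q).obj V),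
      Fac ((Over.map q).map j'') w ↔ Fac m w := by
    intro T w
    have e : (m.left ≫ V.hom) ≫ q = W.hom := by rw [Category.assoc]; exact Over.w m
    constructor
    · rintro ⟨z, hz⟩
      refine ⟨Over.homMk z.left (by rw [← e]; exact Over.w z), ?_⟩
      apply Over.OverMorphism.ext
      exact congrArg (fun x => x.left) hz
    · rintro ⟨z, hz⟩
      refine ⟨Over.homMk z.left (by rw [← Over.w z]; exact congrArg (fun t => z.left ≫ t) e), ?_⟩
      apply Over.OverMorphism.ext
      exact congrArg (fun x => x.left) hz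
  have hj''M : Mono j'' := mono_of_left j''
  obtain ⟨b'', hb''⟩ := exists_action (q := q) i c j'' (by
    intro T g p
    rw [hj''T, hmT']
    intro T' s b₁ h₁
    have hp : Fac ((Over.map q).map j'') (p ≫ (Over.map q).map j'') := ⟨p, rfl⟩
    rw [hj''T, hmT'] at hp
    have hg : Fac i (g ≫ i) := ⟨g, rfl⟩
    rw [hiT'] at hg
    rw [comp_sm, ← sm_mul]
    exact hp T' s _ (hg T' s _ h₁))
  have hv'' : Fac ((Over.map q).map j'') (mk hx v hv (𝟙_ (Over (Spec (CommRingCat.of k))))) := by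
    rw [hj''T, hmT']
    intro T' s b₁ h₁
    rw [comp_mk]
    exact (hβT _ _).mp h₁
  obtain ⟨v'', hv''⟩ := hv''
  refine ⟨H'', inferInstance, i, hiG, hi, V'', j'', b'', v''.left, ⟨?_, ?_⟩, ?_, hb'', ?_⟩
  · -- pseudo-torsor
    rw [isPseudoTorsorSch_iff_kact]
    intro T w₁ w₂ hw
    have hb''k := isEquivariant_iff_kact q |>.mp hb''
    have inj : ∀ (g g' : T ⟶ H''), sm (kact q b'') g w₁ = sm (kact q b'') g' w₁ → g = g' := by
      intro g g' h
      rw [← cancel_mono i]
      apply free_of_isPseudoTorsorSch hc (w := w₁ ≫ (Over.map q).map j'')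
      rw [← hb''k, ← hb''k, h]
    obtain ⟨h, hh⟩ := trans_of_isPseudoTorsorSch hc (w₁ ≫ (Over.map q).map j'') (w₂ ≫ (Over.map q).map j'') (by
      rw [Category.assoc, Category.assoc, map_pr, hw])
    have hh' : Fac i h := by
      rw [hiT']
      intro T' s b₁ h₁
      have hw₁ : Fac ((Over.map q).map j'') (w₁ ≫ (Over.map q).map j'') := ⟨w₁, rfl⟩
      have hw₂ : Fac ((Over.map q).map j'') (w₂ ≫ (Over.map q).map j'') := ⟨w₂, rfl⟩
      rw [hj''T, hmT'] at hw₁ hw₂
      have e1 := hw₁ T' s b₁ h₁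
      have e2 := hw₂ T' s b₁ h₁
      obtain ⟨g, hg⟩ := sub_trans hb.1 hj e1 e2 (by
        rw [sm_kact_pr, sm_kact_pr, Category.assoc, Category.assoc, Category.assoc, Category.assoc, map_pr, hw])
      rw [← hh, comp_sm, ← sm_mul, ← sm_mul] at hg
      rw [← free_of_isPseudoTorsorSch hc hg]
      exact A2 g h₁
    obtain ⟨g, rfl⟩ := hh'
    have hg : sm (kact q b'') g w₁ = w₂ := by
      have hMo : Mono ((Over.map q).map j'') := mono_of_left _
      rw [← cancel_mono ((Over.map q).map j''), hb''k, hh]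
    exact ⟨g, hg, fun g' hg' => inj _ _ (hg'.trans hg.symm)⟩
  · -- locally trivial
    change LS V''.hom
    let T₁ := (Over.map q).obj V' ⊗ B
    let w' : T₁ ⟶ (Over.map q).obj V := fst ((Over.map q).obj V') B ≫ (Over.map q).map j
    let b₀ : T₁ ⟶ H := snd ((Over.map q).obj V') B ≫ β
    have hw : Fac ((Over.map q).map j'') (sm (kact q c) b₀⁻¹ w') := by
      rw [hj''T, hmT']
      intro T' s b₁ h₁
      obtain ⟨g, hg⟩ := A1 (Fac.comp ⟨_, rfl⟩ s : Fac β (s ≫ b₀)) h₁
      rw [comp_sm, ← sm_mul]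
      have h2 : b₁ * (s ≫ b₀⁻¹) = g ≫ i' := by
        rw [comp_inv, ← hg, mul_inv_cancel_right]
      rw [h2]
      exact sub_stable hj (Fac.comp ⟨_, rfl⟩ s) g
    obtain ⟨y, hy⟩ := hw
    have h3 : y.left ≫ V''.hom = (fst ((Over.map q).obj V') B).left ≫ V'.hom := by
      have h4 := congrArg (fun t => t ≫ pr q V) hy
      simp only [Category.assoc, map_pr, sm_kact_pr, w'] at h4
      exact congrArg (fun x => x.left) h4
    refine LS.of_comp (ρ := y.left) ?_
    rw [h3]
    refine LS.comp (show LS V'.hom from hb.2) ?_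
    exact hB.bc (IsPullback.of_hasPullback _ _).flip
  · exact congrArg (fun x => x.left) hv'' |>.trans (Category.id_comp _)
  · intro hiso
    have allB : ∀ (T : Over (Spec (CommRingCat.of k))) (h : T ⟶ H), Fac β h := by
      intro T h
      obtain ⟨T', s, y, hs⟩ := exists_point hB T
      refine fac_desc β s hs h ?_
      have h1 : Fac i (s ≫ h) := ⟨(s ≫ h) ≫ inv i, by simp⟩
      have h2 : Fac i (y ≫ β) := ⟨(y ≫ β) ≫ inv i, by simp⟩
      have h3 : Fac i ((y ≫ β)⁻¹ * (s ≫ h)) := ⟨((y ≫ β)⁻¹ * (s ≫ h)) ≫ inv i, by simp⟩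
      rw [hiT'] at h3
      have h4 := h3 T' (𝟙 _) (y ≫ β) ⟨y, rfl⟩
      rwa [Category.id_comp, mul_inv_cancel_left] at h4
    have hMj : Mono j := mono_of_left j
    have hid : Fac ((Over.map q).map j) (𝟙 ((Over.map q).obj V)) := by
      -- over the cover `V ×_X V'`
      let T' : Over (Spec (CommRingCat.of k)) := Over.mk (pullback.fst V.hom V'.hom ≫ V.hom ≫ q)
      let s : T' ⟶ (Over.map q).obj V := Over.homMk (pullback.fst V.hom V'.hom) rfl
      have hs : LS s.left := (show LS V'.hom from hb.2).bc (IsPullback.of_hasPullback V.hom V'.hom).flip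
      let w' : T' ⟶ (Over.map q).obj V' := Over.homMk (pullback.snd V.hom V'.hom) (by
        change pullback.snd V.hom V'.hom ≫ V'.hom ≫ q = pullback.fst V.hom V'.hom ≫ V.hom ≫ q
        rw [← pullback.condition_assoc])
      refine fac_desc _ s hs _ ?_
      rw [Category.comp_id]
      obtain ⟨h, hh⟩ := trans_of_isPseudoTorsorSch hc (w' ≫ (Over.map q).map j) s (by
        rw [Category.assoc, map_pr]
        apply Over.OverMorphism.ext
        exact pullback.condition.symm)
      obtain ⟨g, hg⟩ := A1 (allB T' 1) (allB T' h)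
      rw [_root_.mul_one] at hg
      rw [← hh, ← hg]
      exact sub_stable hj ⟨w', rfl⟩ g
    obtain ⟨z, hz⟩ := hid
    obtain ⟨z', rfl⟩ := exists_hom_of_pr q z (by
      have := congrArg (fun t => t ≫ pr q V) hz
      simp only [Category.assoc, map_pr, Category.id_comp] at this
      exact this)
    apply isIso_of_fac_id j
    refine ⟨z', map_injective q ?_⟩
    rw [Functor.map_comp, hz, CategoryTheory.Functor.map_id]

end main

end K996.Conj
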