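import Groth.Agent.Ega4late.H544.FieldRank
import Mathlib.RingTheory.LocalProperties.Projective
import Mathlib.LinearAlgebra.Dual.Lemmas
import Mathlib.FieldTheory.IsAlgClosed.AlgebraicClosure

/-!
# Finite modules over a Noetherian domain with constant fibre rank
-/

set_option autoImplicit false
set_option linter.style.haveILetI false
universe u
open TensorProduct IsLocalRing

namespace K996.ConstRank

theorem finrank_hom {A : Type u} [CommRing A] (Q : Type u) [AddCommGroup Q] [Module A Q] (Ω : Type u) [Field Ω]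
    [Algebra A Ω] : Module.finrank Ω (Q →ₗ[A] Ω) = Module.finrank Ω (Ω ⊗[A] Q) := by
  rw [(LinearMap.liftBaseChangeEquiv Ω : (Q →ₗ[A] Ω) ≃ₗ[Ω] (Ω ⊗[A] Q →ₗ[Ω] Ω)).finrank_eq]
  exact Subspace.dual_finrank_eq

theorem finrank_tower {A : Type u} [CommRing A] (Q : Type u) [AddCommGroup Q] [Module A Q] (K Ω : Type u) [Field K]
    [Field Ω] [Algebra A K] [Algebra K Ω] [Algebra A Ω] [IsScalarTower A K Ω] :
    Module.finrank Ω (Ω ⊗[A] Q) = Module.finrank K (K ⊗[A] Q) := by
  rw [← (AlgebraTensorModule.cancelBaseChange A K Ω Ω Q).finrank_eq, Module.finrank_baseChange]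

section

variable {A : Type u} [CommRing A] (Q : Type u) [AddCommGroup Q] [Module A Q] [Module.Finite A Q]

theorem free_at [IsDomain A] (n : ℕ)
    (h1 : ∀ (Ω : Type u) [Field Ω] [IsAlgClosed Ω] [Algebra A Ω], Module.finrank Ω (Q →ₗ[A] Ω) ≤ n)
    (L : Type u) [Field L] [Algebra A L] (hL : Function.Injective (algebraMap A L))
    (h2 : Module.finrank L (Q →ₗ[A] L) = n) (p : Ideal A) [p.IsPrime] :
    Module.Free (Localization.AtPrime p) (Localization.AtPrime p ⊗[A] Q) ∧
      Module.finrank (Localization.AtPrime p) (Localization.AtPrime p ⊗[A] Q) = n := by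
  have hu : ∀ y : p.primeCompl, IsUnit (algebraMap A L y) := fun y => by
    rw [isUnit_iff_ne_zero, ne_eq, map_eq_zero_iff _ hL]
    intro h
    exact y.2 (by rw [h]; exact p.zero_mem)
  letI : Algebra (Localization.AtPrime p) L := (IsLocalization.lift (M := p.primeCompl) hu).toAlgebra
  haveI : IsScalarTower A (Localization.AtPrime p) L := IsScalarTower.of_algebraMap_eq' (by
    ext a
    exact (IsLocalization.lift_eq hu a).symm)
  have hL' : Function.Injective (algebraMap (Localization.AtPrime p) L) := by
    rw [injective_iff_map_eq_zero]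
    intro z hz
    obtain ⟨a, s, rfl⟩ := IsLocalization.exists_mk'_eq p.primeCompl z
    have h3 : algebraMap (Localization.AtPrime p) L (IsLocalization.mk' _ a s) *
        algebraMap (Localization.AtPrime p) L (algebraMap A _ s) = 0 := by rw [hz, zero_mul]
    rw [← map_mul, IsLocalization.mk'_spec, ← IsScalarTower.algebraMap_apply, map_eq_zero_iff _ hL] at h3
    rw [h3, IsLocalization.mk'_zero]
  refine Groth.Agent.Ega4late.H544.FieldRank.free_of_ranks n ?_ L hL' ?_
  · let K := ResidueField (Localization.AtPrime p)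
    have h3 := h1 (AlgebraicClosure K)
    rw [finrank_hom, finrank_tower Q K] at h3
    rwa [← (AlgebraTensorModule.cancelBaseChange A (Localization.AtPrime p) K K Q).finrank_eq] at h3
  · rw [(AlgebraTensorModule.cancelBaseChange A (Localization.AtPrime p) L L Q).finrank_eq, ← finrank_hom, h2]

theorem projective_of_ranks [IsDomain A] [IsNoetherianRing A] (n : ℕ)
    (h1 : ∀ (Ω : Type u) [Field Ω] [IsAlgClosed Ω] [Algebra A Ω], Module.finrank Ω (Q →ₗ[A] Ω) ≤ n)
    (L : Type u) [Field L] [Algebra A L] (hL : Function.Injective (algebraMap A L))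
    (h2 : Module.finrank L (Q →ₗ[A] L) = n) : Module.Projective A Q := by
  have : Module.FinitePresentation A Q := Module.finitePresentation_of_finite A Q
  refine Module.projective_of_localization_maximal fun p _ => ?_
  have h3 := (free_at Q n h1 L hL h2 p).1
  exact Module.Projective.of_equiv (LocalizedModule.equivTensorProduct p.primeCompl Q).symm

theorem finrank_eq_of_ranks [IsDomain A] (n : ℕ)
    (h1 : ∀ (Ω : Type u) [Field Ω] [IsAlgClosed Ω] [Algebra A Ω], Module.finrank Ω (Q →ₗ[A] Ω) ≤ n)
    (L : Type u) [Field L] [Algebra A L] (hL : Function.Injective (algebraMap A L))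
    (h2 : Module.finrank L (Q →ₗ[A] L) = n) (Ω : Type u) [Field Ω] [Algebra A Ω] :
    Module.finrank Ω (Q →ₗ[A] Ω) = n := by
  let p : Ideal A := RingHom.ker (algebraMap A Ω)
  haveI : p.IsPrime := RingHom.ker_isPrime _
  have hu : ∀ y : p.primeCompl, IsUnit (algebraMap A Ω y) := fun y => by
    rw [isUnit_iff_ne_zero]
    exact y.2
  letI : Algebra (Localization.AtPrime p) Ω := (IsLocalization.lift (M := p.primeCompl) hu).toAlgebra
  haveI : IsScalarTower A (Localization.AtPrime p) Ω := IsScalarTower.of_algebraMap_eq' (by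
    ext a
    exact (IsLocalization.lift_eq hu a).symm)
  obtain ⟨h3, h4⟩ := free_at Q n h1 L hL h2 p
  rw [finrank_hom, ← (AlgebraTensorModule.cancelBaseChange A (Localization.AtPrime p) Ω Ω Q).finrank_eq,
    Module.finrank_baseChange, h4]

end

end K996.ConstRank
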