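import Mathlib.AlgebraicGeometry.Morphisms.IsIso
import Mathlib.AlgebraicGeometry.Morphisms.ClosedImmersion
import Mathlib.AlgebraicGeometry.IdealSheaf.Subscheme
import Mathlib.AlgebraicGeometry.Morphisms.Separated
import Mathlib.AlgebraicGeometry.Morphisms.QuasiSeparated

/-!
# Morphisms `p : Z ⟶ W` with `O_W = p_* O_Z` and affine targets

`exists_section`: if `u : U ⟶ W` is affine and `φ : Z ⟶ U` lies over `p`, then `φ` factors through a section of `u`.
-/

set_option autoImplicit false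
universe u
open CategoryTheory CategoryTheory.Limits AlgebraicGeometry

namespace K996.OConn

theorem isIso_of_isAffineHom {U W : Scheme.{u}} (g : U ⟶ W) [IsAffineHom g]
    (h : ∀ V : W.Opens, IsAffineOpen V → IsIso (g.app V)) : IsIso g := by
  change MorphismProperty.isomorphisms Scheme g
  rw [IsZariskiLocalAtTarget.iff_of_iSup_eq_top (P := MorphismProperty.isomorphisms Scheme)
    (fun V : W.affineOpens => V.1) (iSup_affineOpens_eq_top W)]
  intro V
  have h1 := h V.1 V.2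
  have : IsAffine V.1.toScheme := V.2
  have hg : IsAffine (g ⁻¹ᵁ V.1).toScheme := V.2.preimage g
  rw [HasAffineProperty.iff_of_isAffine (P := MorphismProperty.isomorphisms Scheme)]
  refine ⟨hg, ?_⟩
  rw [Scheme.Hom.appTop, morphismRestrict_app]
  have h2 : ∀ O : W.Opens, O = V.1 → IsIso (g.app O) := by rintro _ rfl; exact h1
  have h3 : IsIso (g.app (V.1.ι ''ᵁ ⊤)) := h2 _ (Scheme.Opens.ι_image_top _)
  exact @IsIso.comp_isIso _ _ _ _ _ _ _ h3 (Functor.map_isIso _ _)

theorem exists_section {Z W U : Scheme.{u}} (p : Z ⟶ W) [QuasiCompact p] (hp : ∀ V : W.Opens, IsIso (p.app V))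
    (g : U ⟶ W) [IsAffineHom g] (φ : Z ⟶ U) (hφ : φ ≫ g = p) : ∃ σ : W ⟶ U, σ ≫ g = 𝟙 W ∧ p ≫ σ = φ := by
  have hsep : IsSeparated g := inferInstance
  have hqc : QuasiCompact φ := by
    have h1 : QuasiCompact (φ ≫ g) := by rw [hφ]; infer_instance
    exact MorphismProperty.of_postcomp (W := @QuasiCompact) (W' := @QuasiSeparated) φ g inferInstance h1
  have hiso : IsIso (φ.imageι ≫ g) := by
    apply isIso_of_isAffineHom
    intro V hV
    have h0 : φ.toImage ≫ φ.imageι ≫ g = p := by rw [← Category.assoc, φ.toImage_imageι, hφ]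
    have h1 : IsIso ((φ.toImage ≫ φ.imageι ≫ g).app V) := by rw [h0]; exact hp V
    have h2 := ConcreteCategory.bijective_of_isIso ((φ.toImage ≫ φ.imageι ≫ g).app V)
    have h3 : Function.Injective (φ.toImage.app ((φ.imageι ≫ g) ⁻¹ᵁ V)) :=
      φ.toImage_app_injective ⟨g ⁻¹ᵁ V, hV.preimage g⟩
    have h4 : ∀ x, (φ.toImage ≫ φ.imageι ≫ g).app V x =
        φ.toImage.app ((φ.imageι ≫ g) ⁻¹ᵁ V) ((φ.imageι ≫ g).app V x) := fun x => by
      rw [Scheme.Hom.comp_app]; rfl
    rw [ConcreteCategory.isIso_iff_bijective]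
    refine ⟨fun x y hxy => h2.1 ?_, fun y => ?_⟩
    · change (φ.toImage ≫ φ.imageι ≫ g).app V x = (φ.toImage ≫ φ.imageι ≫ g).app V y
      rw [h4, h4]
      exact congrArg _ hxy
    · obtain ⟨x, hx⟩ := h2.2 (φ.toImage.app ((φ.imageι ≫ g) ⁻¹ᵁ V) y)
      refine ⟨x, h3 ?_⟩
      exact (h4 x).symm.trans hx
  have h0 : φ.toImage ≫ φ.imageι ≫ g = p := by rw [← Category.assoc, φ.toImage_imageι, hφ]
  refine ⟨inv (φ.imageι ≫ g) ≫ φ.imageι, by rw [Category.assoc, IsIso.inv_hom_id], ?_⟩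
  rw [← h0, Category.assoc, Category.assoc]
  rw [← Category.assoc (φ.imageι) g, IsIso.hom_inv_id_assoc, φ.toImage_imageι]

theorem exists_desc {Z W U Y : Scheme.{u}} (p : Z ⟶ W) [QuasiCompact p] (hp : ∀ V : W.Opens, IsIso (p.app V))
    (w : W ⟶ Y) (g : U ⟶ Y) [IsAffineHom g] (φ : Z ⟶ U) (hφ : φ ≫ g = p ≫ w) :
    ∃ r : W ⟶ U, r ≫ g = w ∧ p ≫ r = φ := by
  have h1 : IsAffineHom (pullback.snd g w) := MorphismProperty.pullback_snd (P := @IsAffineHom) g w ‹_›
  obtain ⟨σ, h2, h3⟩ := exists_section p hp (pullback.snd g w) (pullback.lift φ p hφ) (pullback.lift_snd _ _ _)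
  refine ⟨σ ≫ pullback.fst g w, ?_, ?_⟩
  · rw [Category.assoc, pullback.condition, ← Category.assoc, h2, Category.id_comp]
  · rw [← Category.assoc, h3, pullback.lift_fst]

/-- A morphism to affine schemes inducing an isomorphism on global functions. -/
theorem exists_iso_of_isIso_appTop {Z U U' : Scheme.{u}} [IsAffine U] [IsAffine U'] (f : Z ⟶ U) (f' : Z ⟶ U')
    [IsIso f.appTop] [IsIso f'.appTop] : ∃ e : U ≅ U', f ≫ e.hom = f' := by
  have h1 : IsIso f'.appTop := inferInstance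
  let a : Γ(U', ⊤) ≅ Γ(U, ⊤) := asIso f'.appTop ≪≫ (asIso f.appTop).symm
  refine ⟨U.isoSpec ≪≫ Scheme.Spec.mapIso a.op ≪≫ U'.isoSpec.symm, ?_⟩
  simp only [Iso.trans_hom, Functor.mapIso_hom, Iso.symm_hom]
  rw [← Category.assoc, ← Category.assoc, Iso.comp_inv_eq, Scheme.isoSpec_hom, Scheme.isoSpec_hom]
  rw [Scheme.toSpecΓ_naturality, Scheme.toSpecΓ_naturality, Category.assoc]
  congr 1
  change Spec.map _ ≫ Spec.map _ = Spec.map _
  rw [← Spec.map_comp]
  congr 1
  simp [a]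

end K996.OConn
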