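import Groth.Agent.NoriFGS.K996.Induced
import Groth.Agent.NoriFGS.K996.OConn

/-!
# Descent of torsors along a morphism with `O = f_* O` universally

`f : X ⟶ Y` with `O_W = (f_W)_* O` for all `W ⟶ Y` and `f_W` epi.  A torsor `T` over `X` under a group from the base
whose underlying scheme is `X ×_Y U` with `U` affine over `Y` is the pull-back of a torsor structure on `U`.
-/

set_option autoImplicit false
universe u
open CategoryTheory CategoryTheory.Limits MonoidalCategory CartesianMonoidalCategory MonObj GrpObj AlgebraicGeometry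

namespace K996.Desc

open AlgGrp AlgGrp.Action K996.Pts K996.KAct K996.LocSplit K996.Induced

variable {S X Y : Scheme.{u}} {qX : X ⟶ S} {qY : Y ⟶ S} (f : X ⟶ Y)

/-- `O_W = (f_W)_* O` for all `W ⟶ Y`, and `f_W` is quasi-compact and an epimorphism. -/
structure OC (f : X ⟶ Y) : Prop where
  qc : ∀ W : Over Y, QuasiCompact (pullback.fst W.hom f)
  app : ∀ (W : Over Y) (V : W.left.Opens), IsIso ((pullback.fst W.hom f).app V)
  epi : ∀ W : Over Y, Epi (pullback.fst W.hom f)

/-- The counit. -/
noncomputable def eps (W : Over Y) : (Over.map f).obj (Red.bc f W) ⟶ W := dn f (𝟙 _)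

theorem eps_left (W : Over Y) : (eps f W).left = pullback.fst W.hom f := by
  have h := up_left_fst f (eps f W)
  rw [eps, up_dn] at h
  exact h.symm.trans (Category.id_comp _)

theorem up_eps_comp {W U : Over Y} (w : W ⟶ U) : up f (eps f W ≫ w) = (Over.pullback f).map w := by
  rw [← up_comp, eps, up_dn, Category.id_comp]

theorem eps_nat {W W' : Over Y} (h : W' ⟶ W) :
    eps f W' ≫ h = (Over.map f).map ((Over.pullback f).map h) ≫ eps f W := by
  apply up_injective f
  rw [up_eps_comp, ← comp_up, eps, up_dn, Category.comp_id]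

/-- The unit. -/
noncomputable def eta (V : Over X) : V ⟶ Red.bc f ((Over.map f).obj V) := up f (𝟙 _)

theorem map_eta_eps (V : Over X) : (Over.map f).map (eta f V) ≫ eps f ((Over.map f).obj V) = 𝟙 _ := by
  apply up_injective f
  rw [← comp_up, eps, up_dn, Category.comp_id, eta]

variable {f}

theorem OC.desc (hoc : OC f) {W A : Over Y} [IsAffineHom A.hom] (φ : (Over.map f).obj (Red.bc f W) ⟶ A) :
    ∃ r : W ⟶ A, eps f W ≫ r = φ := by
  have := hoc.qc W
  obtain ⟨r, h1, h2⟩ := OConn.exists_desc (pullback.fst W.hom f) (hoc.app W) W.hom A.hom φ.left (by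
    rw [Over.w]
    exact pullback.condition.symm)
  refine ⟨Over.homMk r h1, ?_⟩
  apply Over.OverMorphism.ext
  rw [Over.comp_left, eps_left]
  exact h2

theorem OC.ext (hoc : OC f) {W A : Over Y} {r r' : W ⟶ A} (h : eps f W ≫ r = eps f W ≫ r') : r = r' := by
  have := hoc.epi W
  apply Over.OverMorphism.ext
  have h1 := congrArg (fun x => x.left) h
  simp only [Over.comp_left, eps_left] at h1
  rwa [cancel_epi] at h1

theorem sm_bc_up {G P : Over Y} [GrpObj G] (a : Action G P) {V : Over X} (g : (Over.map f).obj V ⟶ G)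
    (x : (Over.map f).obj V ⟶ P) : sm (a.bc f) (up f g) (up f x) = up f (sm a g x) :=
  lift_homEquiv_bc_act f a g x

section bul

variable (hf : f ≫ qY = qX) {H : Over S} [GrpObj H] {T : Over X} (a : Action (Red.bc qX H) T) {U : Over Y}
  (c : T ≅ Red.bc f U)

/-- The action on points of `U` with values in `X`-schemes. -/
noncomputable def bul {V : Over X} (g : (Over.map f).obj V ⟶ Red.bc qY H) (w : (Over.map f).obj V ⟶ U) :
    (Over.map f).obj V ⟶ U :=
  dn f (sm a (up f g ≫ (ActBC.bcCompIso f qY H hf).hom) (up f w ≫ c.inv) ≫ c.hom)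

theorem up_bul {V : Over X} (g : (Over.map f).obj V ⟶ Red.bc qY H) (w : (Over.map f).obj V ⟶ U) :
    up f (bul hf a c g w) = sm a (up f g ≫ (ActBC.bcCompIso f qY H hf).hom) (up f w ≫ c.inv) ≫ c.hom := by
  rw [bul, up_dn]

theorem bul_one {V : Over X} (w : (Over.map f).obj V ⟶ U) : bul hf a c 1 w = w := by
  apply up_injective f
  rw [up_bul, up_one, one_comp, sm_one, Category.assoc, Iso.inv_hom_id, Category.comp_id]

theorem bul_mul {V : Over X} (g h : (Over.map f).obj V ⟶ Red.bc qY H) (w : (Over.map f).obj V ⟶ U) :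
    bul hf a c (g * h) w = bul hf a c g (bul hf a c h w) := by
  apply up_injective f
  rw [up_bul, up_mul, mul_comp, sm_mul, up_bul, up_bul, Category.assoc, Iso.hom_inv_id, Category.comp_id]

theorem bul_nat {V V' : Over X} (h : V' ⟶ V) (g : (Over.map f).obj V ⟶ Red.bc qY H) (w : (Over.map f).obj V ⟶ U) :
    (Over.map f).map h ≫ bul hf a c g w = bul hf a c ((Over.map f).map h ≫ g) ((Over.map f).map h ≫ w) := by
  apply up_injective f
  rw [← comp_up, up_bul, up_bul, ← Category.assoc, comp_sm, ← comp_up, ← comp_up, Category.assoc, Category.assoc]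

theorem exists_descend (hoc : OC f) [IsAffineHom (Red.bc qY H).hom] (ha : NonAbH1.IsTorsorFor Scheme.fpqcPrecoverage a)
    [IsAffineHom U.hom] (hU : LS U.hom) :
    ∃ cU : Action (Red.bc qY H) U, NonAbH1.IsTorsorFor Scheme.fpqcPrecoverage cU ∧
      IsEquivariant a (pb f hf cU) c.hom := by
  choose act hact using fun (W : Over Y) (g : W ⟶ Red.bc qY H) (w : W ⟶ U) =>
    hoc.desc (bul hf a c (eps f W ≫ g) (eps f W ≫ w))
  let cU : Action (Red.bc qY H) U := mkAct U act
    (by
      intro W W' h g w
      apply hoc.ext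
      rw [← Category.assoc, eps_nat, Category.assoc, hact, bul_nat, hact, ← Category.assoc, ← Category.assoc,
        ← Category.assoc, ← Category.assoc, eps_nat])
    (by
      intro W w
      apply hoc.ext
      rw [hact, comp_one, bul_one])
    (by
      intro W g h w
      apply hoc.ext
      rw [hact, comp_mul, bul_mul, hact, hact])
  have hcU : ∀ {W : Over Y} (g : W ⟶ Red.bc qY H) (w : W ⟶ U),
      eps f W ≫ sm cU g w = bul hf a c (eps f W ≫ g) (eps f W ≫ w) := by
    intro W g w
    rw [sm_mkAct, hact]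
  have hcV : ∀ {V : Over X} (g : (Over.map f).obj V ⟶ Red.bc qY H) (w : (Over.map f).obj V ⟶ U),
      sm cU g w = bul hf a c g w := by
    intro V g w
    have h1 := congrArg (fun z => (Over.map f).map (eta f V) ≫ z) (hcU g w)
    simp only [bul_nat] at h1
    rw [← Category.assoc, map_eta_eps, Category.id_comp, ← Category.assoc, map_eta_eps, Category.id_comp,
      ← Category.assoc, map_eta_eps, Category.id_comp] at h1
    exact h1
  refine ⟨cU, ⟨?_, hU⟩, ?_⟩
  · rw [isPseudoTorsorSch_iff]
    intro W w w'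
    have hinj : ∀ g g' : W ⟶ Red.bc qY H, sm cU g w = sm cU g' w → g = g' := by
      intro g g' h
      apply hoc.ext
      have h1 := hcU g w
      rw [h, hcU] at h1
      have h2 := congrArg (fun z => up f z ≫ c.inv) h1
      simp only [up_bul, Category.assoc, Iso.hom_inv_id, Category.comp_id] at h2
      have h3 := (isPseudoTorsorSch_iff.mp ha.1 _ _ _).unique h2 rfl
      rw [cancel_mono] at h3
      exact (up_injective f h3).symm
    obtain ⟨γ, hγ, -⟩ := isPseudoTorsorSch_iff.mp ha.1 _ (up f (eps f W ≫ w) ≫ c.inv) (up f (eps f W ≫ w') ≫ c.inv)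
    obtain ⟨g, hg⟩ := hoc.desc (A := Red.bc qY H) (dn f (γ ≫ (ActBC.bcCompIso f qY H hf).inv))
    have hgw : sm cU g w = w' := by
      apply hoc.ext
      rw [hcU]
      apply up_injective f
      rw [up_bul, hg, up_dn, Category.assoc, Iso.inv_hom_id, Category.comp_id, hγ, Category.assoc, Iso.inv_hom_id,
        Category.comp_id]
    exact ⟨g, hgw, fun g' hg' => hinj _ _ (hg'.trans hgw.symm)⟩
  · rw [isEquivariant_iff]
    intro V g t
    have h1 : g = up f (dn f (g ≫ (ActBC.bcCompIso f qY H hf).inv)) ≫ (ActBC.bcCompIso f qY H hf).hom := by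
      rw [up_dn, Category.assoc, Iso.inv_hom_id, Category.comp_id]
    have h2 : t ≫ c.hom = up f (dn f (t ≫ c.hom)) := by rw [up_dn]
    rw [pb, sm_restrict, h2]
    have h3 : g ≫ (ActBC.bcCompIso f qY H hf).inv = up f (dn f (g ≫ (ActBC.bcCompIso f qY H hf).inv)) := by
      rw [up_dn]
    rw [h3, sm_bc_up, hcV, up_bul, ← h1, up_dn, Category.assoc, Iso.hom_inv_id, Category.comp_id]

end bul

end K996.Desc
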