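import Groth.Agent.NoriFGS.K996.Group
import Groth.Prelude.Def_Coh
import Mathlib.LinearAlgebra.Dimension.Free
import Mathlib.LinearAlgebra.Dimension.Finite

/-!
# Functions on a finite group scheme as a vector space
-/

set_option autoImplicit false
set_option linter.style.haveILetI false
universe u
open CategoryTheory CategoryTheory.Limits MonoidalCategory CartesianMonoidalCategory MonObj GrpObj AlgebraicGeometry

namespace K996.Dim

variable {k : Type u} [Field k]

/-- The structure map of the ring of functions. -/
noncomputable def str (G : Over (Spec (CommRingCat.of k))) : k →+* Γ(G.left, ⊤) :=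
  G.hom.appTop.hom.comp (Scheme.ΓSpecIso (CommRingCat.of k)).inv.hom

theorem str_comp {G H : Over (Spec (CommRingCat.of k))} (ψ : G ⟶ H) (r : k) :
    ψ.left.appTop (str H r) = str G r := by
  have h : H.hom.appTop ≫ ψ.left.appTop = G.hom.appTop := by
    rw [← Scheme.Hom.comp_appTop, Over.w]
  exact congrArg (fun z => z.hom ((Scheme.ΓSpecIso (CommRingCat.of k)).inv.hom r)) h

theorem isFinite_iff (G : Over (Spec (CommRingCat.of k))) : IsFinite G.hom ↔ IsAffine G.left ∧ (str G).Finite := by
  rw [HasAffineProperty.iff_of_isAffine (P := @IsFinite)]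
  refine and_congr_right fun _ => ?_
  have h1 : ((Scheme.ΓSpecIso (CommRingCat.of k)).inv.hom : k →+* Γ(Spec (CommRingCat.of k), ⊤)).Finite :=
    RingHom.Finite.of_surjective _ (ConcreteCategory.bijective_of_isIso (Scheme.ΓSpecIso (CommRingCat.of k)).inv).2
  constructor
  · intro h
    exact h.comp h1
  · intro h
    exact RingHom.Finite.of_comp_finite h

/-- The vector space structure on functions. -/
noncomputable abbrev mdl (G : Over (Spec (CommRingCat.of k))) : Module k Γ(G.left, ⊤) :=
  Module.compHom Γ(G.left, ⊤) (str G)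

theorem smul_def (G : Over (Spec (CommRingCat.of k))) (r : k) (s : Γ(G.left, ⊤)) :
    letI := mdl G
    r • s = str G r * s := rfl

/-- Pull-back of functions is linear. -/
noncomputable def lin {G H : Over (Spec (CommRingCat.of k))} (ψ : G ⟶ H) :
    letI := mdl G; letI := mdl H
    Γ(H.left, ⊤) →ₗ[k] Γ(G.left, ⊤) :=
  letI := mdl G; letI := mdl H
  { toFun := ψ.left.appTop
    map_add' := map_add _
    map_smul' := fun r s => by
      change ψ.left.appTop (str H r * s) = str G r * ψ.left.appTop s
      rw [map_mul, str_comp] }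

theorem module_finite_iff (G : Over (Spec (CommRingCat.of k))) :
    (letI := mdl G; Module.Finite k Γ(G.left, ⊤)) ↔ (str G).Finite := Iff.rfl

/-- A pro-finite group whose finite quotients have bounded order is finite. -/
theorem isFinite_of_bound {πN : Over (Spec (CommRingCat.of k))} [GrpObj πN] (h : NoriFGS.IsProFinite πN) (M : ℕ)
    (hM : ∀ (H : Over (Spec (CommRingCat.of k))) [GrpObj H] [IsFinite H.hom] (ψ : πN ⟶ H) [IsMonHom ψ],
      Group.Inj ψ → @Module.finrank k Γ(H.left, ⊤) _ _ (mdl H) ≤ M) : IsFinite πN.hom := by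
  have hA : IsAffine πN.left := Group.isAffine_of_isProFinite h
  rw [isFinite_iff]
  refine ⟨hA, ?_⟩
  rw [← module_finite_iff]
  letI := mdl πN
  have hr : Module.rank k Γ(πN.left, ⊤) ≤ M := by
    apply rank_le
    intro s hs
    obtain ⟨D, _, _, ψ, _, t, ht⟩ := Group.exists_finite_quotient h (J := Fin s.card) (fun j => (s.equivFin.symm j : _))
    have hAD : IsAffine D.left := isAffine_of_isAffineHom D.hom
    obtain ⟨H, _, i, _, _, ψ', _, hψ, hinj, -, -, hAH⟩ := Group.exists_image ψ
    have hHf : IsFinite H.hom := by rw [← Over.w i]; infer_instance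
    letI := mdl H
    have hfin : Module.Finite k Γ(H.left, ⊤) := (module_finite_iff H).mpr ((isFinite_iff H).mp hHf).2
    have e1 : ∀ j, lin ψ' (i.left.appTop (t j)) = s.equivFin.symm j := by
      intro j
      have : i.left.appTop ≫ ψ'.left.appTop = ψ.left.appTop := by
        rw [← hψ, Over.comp_left, Scheme.Hom.comp_appTop]
      rw [← ht j, ← this]
      rfl
    have h1 : LinearIndependent k (fun j : Fin s.card => i.left.appTop (t j)) := by
      apply LinearIndependent.of_comp (lin ψ')
      have h2 : (lin ψ' ∘ fun j : Fin s.card => i.left.appTop (t j)) =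
          (fun x : s => (x : Γ(πN.left, ⊤))) ∘ s.equivFin.symm := funext e1
      rw [h2]
      exact hs.comp _ s.equivFin.symm.injective
    have h3 := h1.fintype_card_le_finrank
    rw [Fintype.card_fin] at h3
    exact h3.trans (hM H ψ' hinj)
  exact Module.rank_lt_aleph0_iff.mp (hr.trans_lt (Cardinal.natCast_lt_aleph0))

end K996.Dim
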