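import Groth.Agent.NoriFGS.K996.NR
import Groth.Agent.NoriFGS.K996.Dim
import Groth.Agent.NonAbH1.K554.FibProd
import Mathlib.AlgebraicGeometry.AlgClosed.Basic

/-!
# fppf torsors and points over an algebraically closed field
-/

set_option autoImplicit false
set_option linter.style.haveILetI false
universe u
open CategoryTheory CategoryTheory.Limits MonoidalCategory CartesianMonoidalCategory MonObj GrpObj AlgebraicGeometry

namespace K996.Fppf

open AlgGrp AlgGrp.Action K996.Pts K996.KAct K996.Sub K996.LocSplit K996.Conj K996.NR NoriFGS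

theorem exists_section {k : Type u} [Field k] [IsAlgClosed k] {X : Scheme.{u}} (f : X ⟶ Spec (CommRingCat.of k))
    [LocallyOfFiniteType f] [Nonempty X] : ∃ s : Spec (CommRingCat.of k) ⟶ X, s ≫ f = 𝟙 _ := by
  have : JacobsonSpace X := LocallyOfFiniteType.jacobsonSpace f
  have h : (closedPoints X).Nonempty := by
    rw [Set.nonempty_iff_ne_empty]
    intro h0
    have h1 := closure_closedPoints (X := X)
    rw [h0, closure_empty] at h1
    exact Set.empty_ne_univ h1
  obtain ⟨x, hx⟩ := h
  exact ⟨pointOfClosedPoint f x hx, pointOfClosedPoint_comp f x hx⟩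

/-- An fppf locally split morphism has a point over each point with values in an algebraically closed field. -/
theorem exists_lift {k : Type u} [Field k] [IsAlgClosed k] {X : Scheme.{u}} (Q : Over X)
    (hQ : NonAbH1.IsLocallyTrivialFor Scheme.fppfPrecoverage Q) (x : Spec (CommRingCat.of k) ⟶ X) :
    ∃ t : Spec (CommRingCat.of k) ⟶ Q.left, t ≫ Q.hom = x := by
  obtain ⟨R, hR, hs⟩ := hQ
  obtain ⟨σ, Y, g, rfl⟩ := R.exists_eq_ofArrows
  obtain ⟨hR1, hR2⟩ := (Scheme.ofArrows_mem_precoverage_iff _).mp hR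
  obtain ⟨i, y, hy⟩ := hR1 (x (IsLocalRing.closedPoint k))
  have hl : LocallyOfFinitePresentation (g i) := (hR2 i).2
  obtain ⟨s, hs⟩ := hs (g i) (Presieve.ofArrows.mk i)
  obtain ⟨z, -, -⟩ := Scheme.Pullback.exists_preimage_pullback (f := g i) (g := x) y (IsLocalRing.closedPoint k) hy
  have : Nonempty ↥(pullback (g i) x) := ⟨z⟩
  obtain ⟨t, ht⟩ := exists_section (pullback.snd (g i) x)
  refine ⟨t ≫ pullback.fst (g i) x ≫ s, ?_⟩
  rw [Category.assoc, Category.assoc, hs, pullback.condition, ← Category.assoc, ht, Category.id_comp]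

theorem isTorsorFor_fpqc {S : Scheme.{u}} {G P : Over S} [GrpObj G] {a : Action G P}
    (h : NonAbH1.IsTorsorFor Scheme.fppfPrecoverage a) : NonAbH1.IsTorsorFor Scheme.fpqcPrecoverage a := by
  obtain ⟨h1, R, hR, hs⟩ := h
  exact ⟨h1, R, Scheme.fppfPrecoverage_le_fpqcPrecoverage _ hR, hs⟩

/-- An fpqc torsor under a finite group scheme over a field is an fppf torsor. -/
theorem isTorsorFor_fppf {k : Type u} [Field k] {X : Scheme.{u}} {q : X ⟶ Spec (CommRingCat.of k)}
    {H : Over (Spec (CommRingCat.of k))} [GrpObj H] [IsFinite H.hom] {V : Over X} {c : Action (Red.bc q H) V}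
    (hc : NonAbH1.IsTorsorFor Scheme.fpqcPrecoverage c) : NonAbH1.IsTorsorFor Scheme.fppfPrecoverage c := by
  refine ⟨hc.1, ?_⟩
  have h1 : Flat V.hom := K554.FibProd.flat_hom q hc
  have h2 : Surjective V.hom := by
    have h3 : Surjective H.hom := by
      refine ⟨fun y => ⟨η[H].left y, ?_⟩⟩
      have h4 : η[H].left ≫ H.hom = 𝟙 _ := Over.w η[H]
      rw [← Scheme.Hom.comp_apply, h4]
      rfl
    exact K554.Fpqc.prop_of_isTorsorFor @Surjective hc (MorphismProperty.pullback_snd (P := @Surjective) H.hom q h3)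
  have h3 : LocallyOfFinitePresentation V.hom := K554.FibProd.lfp_hom q hc
  refine ⟨Presieve.singleton V.hom, Scheme.Hom.singleton_mem_fppfPrecoverage V.hom, ?_⟩
  rintro S' f ⟨⟩
  exact ⟨𝟙 _, Category.id_comp _⟩

/-- A quotient of finite type of a pro-finite group scheme is finite. -/
theorem isFinite_of_inj {k : Type u} [Field k] {πN H : Over (Spec (CommRingCat.of k))} [GrpObj πN]
    (h : IsProFinite πN) [IsAffine H.left] [LocallyOfFiniteType H.hom] (ψ : πN ⟶ H) (hψ : Group.Inj ψ) :
    IsFinite H.hom := by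
  rw [Dim.isFinite_iff]
  refine ⟨inferInstance, ?_⟩
  have h1 : H.hom.appTop.hom.FiniteType :=
    (HasRingHomProperty.iff_of_isAffine (P := @LocallyOfFiniteType)).mp inferInstance
  have h2 : (Dim.str H).FiniteType :=
    h1.comp (RingHom.FiniteType.of_surjective _
      (ConcreteCategory.bijective_of_isIso (Scheme.ΓSpecIso (CommRingCat.of k)).inv).2)
  letI := (Dim.str H).toAlgebra
  letI := (Dim.str πN).toAlgebra
  obtain ⟨s, hs⟩ := (show Algebra.FiniteType k Γ(H.left, ⊤) from h2).out
  obtain ⟨D, _, _, χ, _, t, ht⟩ := Group.exists_finite_quotient h (J := Fin s.card)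
    (fun j => ψ.left.appTop (s.equivFin.symm j : Γ(H.left, ⊤)))
  letI := (Dim.str D).toAlgebra
  have h3 : Module.Finite k Γ(D.left, ⊤) := ((Dim.isFinite_iff D).mp inferInstance).2
  let ψ' : Γ(H.left, ⊤) →ₐ[k] Γ(πN.left, ⊤) := { ψ.left.appTop.hom with commutes' := Dim.str_comp ψ }
  let χ' : Γ(D.left, ⊤) →ₐ[k] Γ(πN.left, ⊤) := { χ.left.appTop.hom with commutes' := Dim.str_comp χ }
  have h4 : ψ'.range ≤ χ'.range := by
    rw [← Algebra.map_top, ← hs, AlgHom.map_adjoin]
    apply Algebra.adjoin_le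
    rintro _ ⟨z, hz, rfl⟩
    refine ⟨t (s.equivFin ⟨z, hz⟩), ?_⟩
    refine (ht _).trans ?_
    rw [Equiv.symm_apply_apply]
    rfl
  have h5 : Module.Finite k χ'.range := Module.Finite.of_surjective χ'.rangeRestrict.toLinearMap χ'.rangeRestrict_surjective
  have h6 : Module.Finite k Γ(H.left, ⊤) := by
    refine Module.Finite.of_injective ((Subalgebra.inclusion h4).toLinearMap.comp ψ'.rangeRestrict.toLinearMap) ?_
    intro x y hxy
    apply hψ
    exact congrArg Subtype.val hxy
  exact h6

end K996.Fppf
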