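import Groth.Agent.NoriFGS.K996.H0BC
import Groth.Prelude.Def_Coh

/-!
# Dimension of the space of global functions of a scheme over a field
-/

set_option autoImplicit false
set_option linter.style.haveILetI false
universe u
open CategoryTheory CategoryTheory.Limits AlgebraicGeometry TensorProduct
open Groth.Agent.Ega3B.EqzSections

namespace K996.Rk

/-- The dimension of the space of global functions. -/
noncomputable def rk {Ω : Type u} [Field Ω] {Z : Scheme.{u}} (q : Z ⟶ Spec (CommRingCat.of Ω)) : ℕ :=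
  @Module.finrank Ω (Coh.Γtop Z) _ _ (Module.compHom (Coh.Γtop Z) (Coh.toGlobal q))

variable {Ω : Type u} [Field Ω]

theorem finrank_congr {R R' : Type u} [CommRing R] [CommRing R'] (a : Ω →+* R) (b : Ω →+* R') (e : R ≃+* R')
    (h : ∀ x, e (a x) = b x) : @Module.finrank Ω R _ _ (Module.compHom R a) =
      @Module.finrank Ω R' _ _ (Module.compHom R' b) := by
  letI : Module Ω R := Module.compHom R a
  letI : Module Ω R' := Module.compHom R' b
  refine LinearEquiv.finrank_eq (R := Ω) (M := R) (N := R') { e with map_smul' := fun c x => ?_ }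
  change e (a c * x) = b c * e x
  rw [map_mul, h]

theorem secMap_eq {A : Type u} [CommRing A] {Z : Scheme.{u}} (q : Z ⟶ Spec (CommRingCat.of A)) :
    secMap q ⊤ = (Coh.toGlobal q : A →+* Γ(Z, ⊤)) := by
  have h2 : q.appLE ⊤ ⊤ (le_preimage_top q ⊤) = q.appTop := Scheme.Hom.appLE_eq_app q
  rw [secMap, h2]
  rfl

theorem rk_eq_sec {Z : Scheme.{u}} (q : Z ⟶ Spec (CommRingCat.of Ω)) :
    rk q = Module.finrank Ω (Sec q (⊤ : Z.Opens)) := by
  refine finrank_congr (R := Γ(Z, ⊤)) (R' := Sec q (⊤ : Z.Opens)) (Coh.toGlobal q) (secMap q ⊤)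
    (RingEquiv.refl Γ(Z, ⊤)) fun x => ?_
  rw [secMap_eq]
  rfl

theorem rk_comp {Z W : Scheme.{u}} (ρ : Z ⟶ W) [IsIso ρ.appTop] (q : W ⟶ Spec (CommRingCat.of Ω)) :
    rk (ρ ≫ q) = rk q := by
  symm
  refine finrank_congr (R := Γ(W, ⊤)) (R' := Γ(Z, ⊤)) (Coh.toGlobal q) (Coh.toGlobal (ρ ≫ q))
    (asIso ρ.appTop).commRingCatIsoToRingEquiv fun x => ?_
  change ρ.appTop.hom (q.appTop.hom _) = (ρ ≫ q).appTop.hom _
  rw [Scheme.Hom.comp_appTop]
  rfl

theorem finrank_of_isPushout {k Ω R R' : Type u} [Field k] [Field Ω] [CommRing R] [CommRing R'] (a : k →+* Ω)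
    (b : k →+* R) (c : Ω →+* R') (d : R →+* R')
    (h : IsPushout (CommRingCat.ofHom a) (CommRingCat.ofHom b) (CommRingCat.ofHom c) (CommRingCat.ofHom d)) :
    @Module.finrank Ω R' _ _ (Module.compHom R' c) = @Module.finrank k R _ _ (Module.compHom R b) := by
  letI : Algebra k Ω := a.toAlgebra
  letI : Algebra k R := b.toAlgebra
  letI : Algebra Ω R' := c.toAlgebra
  letI : Algebra R R' := d.toAlgebra
  letI : Algebra k R' := (c.comp a).toAlgebra
  haveI : IsScalarTower k Ω R' := IsScalarTower.of_algebraMap_eq' rfl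
  haveI : IsScalarTower k R R' := IsScalarTower.of_algebraMap_eq' (congrArg (fun φ => φ.hom) h.w)
  have h1 : Algebra.IsPushout k Ω R R' := CommRingCat.isPushout_iff_isPushout.mp h
  have h2 := h1.out.equiv.finrank_eq
  rw [Module.finrank_baseChange] at h2
  exact h2.symm

theorem rk_bc {k : Type u} [Field k] {G P : Scheme.{u}} [IsAffine G] {g : G ⟶ Spec (CommRingCat.of k)}
    {w : Spec (CommRingCat.of Ω) ⟶ Spec (CommRingCat.of k)} {a : P ⟶ G} {b : P ⟶ Spec (CommRingCat.of Ω)}
    (sq : IsPullback a b g w) : rk b = rk g := by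
  have h1 := isPushout_appTop_of_isPullback sq.flip
  have h2 : IsPushout (CommRingCat.ofHom (Spec.preimage w).hom) (CommRingCat.ofHom (S := Γ(G, ⊤)) (Coh.toGlobal g))
      (CommRingCat.ofHom (S := Γ(P, ⊤)) (Coh.toGlobal b)) (CommRingCat.ofHom (R := Γ(G, ⊤)) (S := Γ(P, ⊤)) a.appTop.hom) := by
    refine IsPushout.of_iso h1 (Scheme.ΓSpecIso (CommRingCat.of k)) (Scheme.ΓSpecIso (CommRingCat.of Ω)) (Iso.refl _)
      (Iso.refl _) ?_ ?_ ?_ ?_
    · have h3 := Scheme.ΓSpecIso_naturality (Spec.preimage w)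
      rw [Spec.map_preimage] at h3
      exact h3
    · rw [Iso.refl_hom, Category.comp_id, ← Iso.inv_comp_eq]
      rfl
    · rw [Iso.refl_hom, Category.comp_id, ← Iso.inv_comp_eq]
      rfl
    · exact (Category.comp_id _).trans (Category.id_comp _).symm
  exact finrank_of_isPushout (R := Γ(G, ⊤)) (R' := Γ(P, ⊤)) _ _ _ _ h2

end K996.Rk
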