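import Groth.Agent.NoriFGS.K996.OCFib
import Groth.Agent.NoriFGS.K996.Rk
import Groth.Agent.NoriFGS.K996.Fppf

/-!
# Torsors over the geometric fibres of a morphism with `O = f_* O` universally
-/

set_option autoImplicit false
set_option linter.style.haveILetI false
universe u
open CategoryTheory CategoryTheory.Limits MonoidalCategory CartesianMonoidalCategory MonObj GrpObj AlgebraicGeometry

namespace K996.GeoFib

open AlgGrp AlgGrp.Action K996.Pts K996.Desc K996.Rk

theorem isIso_app_of_isPullback {X Y Z W : Scheme.{u}} {f : X ⟶ Y} (hoc : OC f) {p : Z ⟶ W} {z : Z ⟶ X}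
    {w : W ⟶ Y} (sq : IsPullback p z w f) (V : W.Opens) : IsIso (p.app V) := by
  have h1 := hoc.app (Over.mk w) V
  have e : p = sq.isoPullback.hom ≫ pullback.fst w f := sq.isoPullback_hom_fst.symm
  have h2 : ∀ p' : Z ⟶ W, p' = sq.isoPullback.hom ≫ pullback.fst w f → IsIso (p'.app V) := by
    rintro _ rfl
    rw [Scheme.Hom.comp_app]
    have h3 : IsIso ((pullback.fst w f).app V) := h1
    have h4 : IsIso (sq.isoPullback.hom.app (pullback.fst w f ⁻¹ᵁ V)) := inferInstance
    exact @IsIso.comp_isIso _ _ _ _ _ _ _ h3 h4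
  exact h2 p e

/-- A trivial torsor on a geometric fibre. -/
theorem exists_rho {X Y : Scheme.{u}} {f : X ⟶ Y} (hoc : OC f) {Ω : Type u} [Field Ω]
    (yb : Spec (CommRingCat.of Ω) ⟶ Y) {G' : Over (Spec (CommRingCat.of Ω))} [GrpObj G']
    {T' : Over (pullback f yb)} (b' : Action (Red.bc (pullback.snd f yb) G') T')
    (hb : NonAbH1.IsPseudoTorsorSch b') (hs : NonAbH1.HasSectionOver T' (𝟙 (pullback f yb))) :
    ∃ ρ : T'.left ⟶ G'.left, IsPullback ρ T'.hom G'.hom (pullback.snd f yb) ∧ IsIso ρ.appTop := by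
  obtain ⟨s, hs⟩ := hs
  let o : 𝟙_ (Over (pullback f yb)) ⟶ T' := Over.homMk s hs
  have h1 : IsIso (b'.orbitMap o) := K554.Fpqc.isIso_orbitMap hb o
  have h2 : IsIso (b'.orbitMap o).left :=
    inferInstanceAs (IsIso ((Over.forget _).map (b'.orbitMap o)))
  have h3 : (b'.orbitMap o).left ≫ T'.hom = pullback.snd G'.hom (pullback.snd f yb) := Over.w _
  have h4 : IsPullback (inv (b'.orbitMap o).left ≫ pullback.fst G'.hom (pullback.snd f yb)) T'.hom G'.hom
      (pullback.snd f yb) := by
    refine IsPullback.of_iso (IsPullback.of_hasPullback G'.hom (pullback.snd f yb)) (asIso (b'.orbitMap o).left)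
      (Iso.refl _) (Iso.refl _) (Iso.refl _) ?_ ?_ ?_ ?_
    · simp
    · simp [h3]
    · simp
    · simp
  refine ⟨_, h4, ?_⟩
  have h5 := h4.paste_vert (IsPullback.of_hasPullback f yb).flip
  exact isIso_app_of_isPullback hoc h5 ⊤

/-- Finite schemes are determined by the global functions. -/
theorem isPullback_of_appTop {Ω : Type u} [Field Ω] {P X' G' U' : Scheme.{u}} [IsAffine G'] [IsAffine U']
    {ρ : P ⟶ G'} {t : P ⟶ X'} {g : G' ⟶ Spec (CommRingCat.of Ω)} {q : X' ⟶ Spec (CommRingCat.of Ω)}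
    (sq : IsPullback ρ t g q) [IsIso ρ.appTop] {ν : P ⟶ U'} [IsIso ν.appTop] {u : U' ⟶ Spec (CommRingCat.of Ω)}
    (w : ν ≫ u = t ≫ q) : IsPullback ν t u q := by
  obtain ⟨e, he⟩ := OConn.exists_iso_of_isIso_appTop ρ ν
  have h1 : e.hom ≫ u = g := by
    apply ext_of_isAffine
    have h2 : ρ ≫ e.hom ≫ u = ρ ≫ g := by rw [← Category.assoc, he, w, sq.w]
    have h3 := congrArg (fun z => z.appTop) h2
    simp only [Scheme.Hom.comp_appTop ρ] at h3
    rwa [cancel_mono] at h3
  refine IsPullback.of_iso sq (Iso.refl _) e (Iso.refl _) (Iso.refl _) ?_ ?_ ?_ ?_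
  · simpa using he
  · simp
  · simpa using h1.symm
  · simp

/-- Isomorphy after base change through pull-back squares. -/
theorem isIso_pullback_map {Y Ω : Scheme.{u}} (yb : Ω ⟶ Y) {A B : Over Y} (c : A ⟶ B) {P : Scheme.{u}}
    {a₁ : P ⟶ A.left} {a₂ : P ⟶ Ω} (h1 : IsPullback a₁ a₂ A.hom yb) (h2 : IsPullback (a₁ ≫ c.left) a₂ B.hom yb) :
    IsIso ((Over.pullback yb).map c) := by
  have h3 : h1.isoPullback.hom ≫ ((Over.pullback yb).map c).left = h2.isoPullback.hom := by
    have e1 : ((Over.pullback yb).map c).left ≫ pullback.fst B.hom yb = pullback.fst A.hom yb ≫ c.left :=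
      pullback.lift_fst _ _ _
    have e2 : ((Over.pullback yb).map c).left ≫ pullback.snd B.hom yb = pullback.snd A.hom yb :=
      pullback.lift_snd _ _ _
    apply pullback.hom_ext
    · rw [Category.assoc, e1, ← Category.assoc, IsPullback.isoPullback_hom_fst, IsPullback.isoPullback_hom_fst]
    · rw [Category.assoc, e2, IsPullback.isoPullback_hom_snd, IsPullback.isoPullback_hom_snd]
  have h4 : ((Over.pullback yb).map c).left = h1.isoPullback.inv ≫ h2.isoPullback.hom := by
    rw [Iso.eq_inv_comp, h3]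
  have h5 : IsIso ((Over.pullback yb).map c).left := by rw [h4]; infer_instance
  have : IsIso ((Over.forget Ω).map ((Over.pullback yb).map c)) := h5
  exact isIso_of_reflects_iso _ (Over.forget Ω)

end K996.GeoFib
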