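import Groth.Agent.NoriFGS.K996.Chart
import Groth.Agent.NoriFGS.K996.GeoFib
import Groth.Agent.Sga3B.TorusEtSplit
import Groth.Agent.S1297
import Groth.Agent.S0388

/-!
# Torsors which are trivial on the geometric generic fibre descend

`f : X ⟶ Y` proper flat over `k` with reduced connected geometric fibres, `Y` integral.  A torsor over `X` under a finite
group scheme over `k` which is trivial on the geometric generic fibre, the functions of which on the geometric fibres
satisfy the bound, is the pull-back of a torsor over `Y`.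
-/

set_option autoImplicit false
set_option linter.style.haveILetI false
universe u
open CategoryTheory CategoryTheory.Limits MonoidalCategory CartesianMonoidalCategory MonObj GrpObj AlgebraicGeometry

namespace K996.Descend

open AlgGrp AlgGrp.Action K996.Pts K996.LocSplit K996.Induced K996.Desc K996.Rk K996.GeoFib

variable {k : Type u} [Field k] {X Y : Scheme.{u}} {qX : X ⟶ Spec (CommRingCat.of k)}
  {qY : Y ⟶ Spec (CommRingCat.of k)} {f : X ⟶ Y} (hf : f ≫ qY = qX) {G : Over (Spec (CommRingCat.of k))} [GrpObj G]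
  {T : Over X} (b : Action (Red.bc qX G) T)

/-- The restriction to a fibre. -/
noncomputable def fib {Ω : Type u} [Field Ω] (yb : Spec (CommRingCat.of Ω) ⟶ Y) :
    Action (Red.bc (pullback.snd f yb) (Red.bc (yb ≫ qY) G)) (Red.bc (pullback.fst f yb) T) :=
  (pb (pullback.fst f yb) rfl b).restrict (ActBC.bcCompIso (pullback.snd f yb) (yb ≫ qY) G (by
    rw [← hf, ← Category.assoc, ← Category.assoc, pullback.condition])).hom

theorem fib_isTorsorFor {Ω : Type u} [Field Ω] (yb : Spec (CommRingCat.of Ω) ⟶ Y)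
    (hb : NonAbH1.IsTorsorFor Scheme.fpqcPrecoverage b) : NonAbH1.IsTorsorFor Scheme.fpqcPrecoverage (fib hf b yb) := by
  have h := pb_isTorsorFor (pullback.fst f yb) rfl Scheme.fpqcPrecoverage hb
  exact ⟨isPseudoTorsorSch_restrict_iso h.1 _, h.2⟩

/-- The fibre of the total space. -/
theorem isPullback_fib {Ω : Type u} [Field Ω] (yb : Spec (CommRingCat.of Ω) ⟶ Y) (T : Over X) :
    IsPullback (pullback.fst T.hom (pullback.fst f yb))
      ((Red.bc (pullback.fst f yb) T).hom ≫ pullback.snd f yb) (T.hom ≫ f) yb :=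
  (IsPullback.of_hasPullback T.hom (pullback.fst f yb)).paste_vert (IsPullback.of_hasPullback f yb)

omit [GrpObj G] in
theorem rk_bc_group [IsFinite G.hom] {Ω : Type u} [Field Ω] (yb : Spec (CommRingCat.of Ω) ⟶ Y) :
    rk (Red.bc (yb ≫ qY) G).hom = rk G.hom := by
  have : IsAffine G.left := isAffine_of_isAffineHom G.hom
  exact rk_bc (IsPullback.of_hasPullback G.hom (yb ≫ qY))

theorem rk_fib {T : Over X} {Ω : Type u} [Field Ω] (yb : Spec (CommRingCat.of Ω) ⟶ Y) (P : Scheme.{u})
    (g : P ⟶ T.left) (q : P ⟶ Spec (CommRingCat.of Ω)) (sq : IsPullback g q (T.hom ≫ f) yb) :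
    rk q = rk ((Red.bc (pullback.fst f yb) T).hom ≫ pullback.snd f yb) := by
  have h2 : (sq.isoIsPullback _ _ (isPullback_fib yb T)).hom ≫
      ((Red.bc (pullback.fst f yb) T).hom ≫ pullback.snd f yb) = q := IsPullback.isoIsPullback_hom_snd _ _ _ _
  have h3 : IsIso (sq.isoIsPullback _ _ (isPullback_fib yb T)).hom.appTop := Chart.isIso_appTop _
  rw [← rk_comp (sq.isoIsPullback _ _ (isPullback_fib yb T)).hom, h2]

theorem geomPt_base (s : Y) (q : Spec (CommRingCat.of (AlgebraicClosure (Y.residueField s)))) :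
    (Red.geomPt s).base q = s := by
  change ((Spec.map (CommRingCat.ofHom (algebraMap (Y.residueField s) (AlgebraicClosure (Y.residueField s))))) ≫
    Y.fromSpecResidueField s).base q = s
  exact Y.fromSpecResidueField_apply s _

include hf in
/-- Rank of the functions on a fibre on which the torsor is trivial. -/
theorem rk_of_section [IsFinite G.hom] (hoc : OC f) (hb : NonAbH1.IsTorsorFor Scheme.fpqcPrecoverage b)
    {Ω : Type u} [Field Ω] (yb : Spec (CommRingCat.of Ω) ⟶ Y)
    (hs : NonAbH1.HasSectionOver T (pullback.fst f yb)) :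
    rk ((Red.bc (pullback.fst f yb) T).hom ≫ pullback.snd f yb) = rk G.hom := by
  obtain ⟨s, hs⟩ := hs
  obtain ⟨ρ, h1, h2⟩ := exists_rho hoc yb (fib hf b yb) (fib_isTorsorFor hf b yb hb).1
    ⟨pullback.lift s (𝟙 _) (by rw [hs, Category.id_comp]), pullback.lift_snd _ _ _⟩
  rw [← h1.w, rk_comp, rk_bc_group]

include hf in
/-- The comparison with the Stein factorisation on a fibre. -/
theorem isIso_fib [IsFinite G.hom] (hoc : OC f) (hb : NonAbH1.IsTorsorFor Scheme.fpqcPrecoverage b)
    {Ω : Type u} [Field Ω] (yb : Spec (CommRingCat.of Ω) ⟶ Y)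
    (hs : NonAbH1.HasSectionOver (Red.bc (pullback.fst f yb) T) (𝟙 (pullback f yb)))
    {U : Over Y} [IsFinite U.hom] (ν : T.left ⟶ U.left) (hνu : ν ≫ U.hom = T.hom ≫ f)
    {ν' : (Red.bc (pullback.fst f yb) T).left ⟶ pullback U.hom yb}
    (e1 : ν' ≫ pullback.fst U.hom yb = pullback.fst T.hom (pullback.fst f yb) ≫ ν)
    (e2 : ν' ≫ pullback.snd U.hom yb = (Red.bc (pullback.fst f yb) T).hom ≫ pullback.snd f yb) [IsIso ν'.appTop]
    (c : T.left ⟶ pullback U.hom f) (hc1 : c ≫ pullback.fst U.hom f = ν) (hc2 : c ≫ pullback.snd U.hom f = T.hom)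
    (cY : Over.mk (T.hom ≫ f) ⟶ Over.mk (pullback.snd U.hom f ≫ f)) (hcY : cY.left = c) :
    IsIso ((Over.pullback yb).map cY) := by
  obtain ⟨ρ, hρ, hρi⟩ := exists_rho hoc yb (fib hf b yb) (fib_isTorsorFor hf b yb hb).1 hs
  have hG1 : IsFinite (Red.bc (yb ≫ qY) G).hom := inferInstanceAs (IsFinite (pullback.snd G.hom (yb ≫ qY)))
  have hG2 : IsAffine (Red.bc (yb ≫ qY) G).left := isAffine_of_isAffineHom (Red.bc (yb ≫ qY) G).hom
  have hG3 : IsAffine (pullback U.hom yb) := isAffine_of_isAffineHom (pullback.snd U.hom yb)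
  have A1 : IsPullback ν' (Red.bc (pullback.fst f yb) T).hom (pullback.snd U.hom yb) (pullback.snd f yb) :=
    isPullback_of_appTop hρ e2
  have A2 := A1.paste_horiz (IsPullback.of_hasPullback U.hom yb)
  have A3 : IsPullback (pullback.fst T.hom (pullback.fst f yb) ≫ c) (Red.bc (pullback.fst f yb) T).hom
      (pullback.snd U.hom f) (pullback.fst f yb) := by
    refine IsPullback.of_right ?_ ?_ (IsPullback.of_hasPullback U.hom f)
    · rw [Category.assoc, hc1, ← e1, pullback.condition (f := f)]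
      exact A2
    · rw [Category.assoc, hc2]
      exact pullback.condition
  refine isIso_pullback_map yb cY (isPullback_fib yb T) ?_
  rw [hcY]
  exact A3.paste_vert (IsPullback.of_hasPullback f yb)

theorem exists_descent [IsProper f] [Flat f] [IsIntegral Y] [IsLocallyNoetherian Y] [IsFinite G.hom]
    (hb : NonAbH1.IsTorsorFor Scheme.fpqcPrecoverage b)
    (hfib : ∀ (Ω : Type u) [Field Ω] (yb : Spec (CommRingCat.of Ω) ⟶ Y),
      AlgebraicGeometry.IsReduced (pullback f yb) ∧ ConnectedSpace ↥(pullback f yb : Scheme.{u}))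
    (hbound : ∀ (Ω : Type u) [Field Ω] [IsAlgClosed Ω] (yb : Spec (CommRingCat.of Ω) ⟶ Y),
      rk ((Red.bc (pullback.fst f yb) T).hom ≫ pullback.snd f yb) ≤ rk (Red.bc (yb ≫ qY) G).hom ∧
      (rk ((Red.bc (pullback.fst f yb) T).hom ≫ pullback.snd f yb) = rk (Red.bc (yb ≫ qY) G).hom →
        NonAbH1.HasSectionOver (Red.bc (pullback.fst f yb) T) (𝟙 (pullback f yb))))
    (htriv : ∀ (Ω : Type u) [Field Ω] [IsAlgClosed Ω] (ξ : Spec (CommRingCat.of Ω) ⟶ Y),
      (∀ q, ξ.base q = genericPoint Y) → NonAbH1.HasSectionOver T (pullback.fst f ξ)) :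
    ∃ (U : Over Y) (c : Action (Red.bc qY G) U) (j : T ≅ Red.bc f U),
      NonAbH1.IsTorsorFor Scheme.fpqcPrecoverage c ∧ IsEquivariant b (pb f hf c) j.hom := by
  have hfp : LocallyOfFinitePresentation f := LocallyOfFinitePresentation.iff_locallyOfFiniteType.mpr inferInstance
  have hoc : OC f := OCFib.oc_of_fibres f hfib
  have hTf : IsFinite T.hom := K554.FibProd.isFinite_hom qX hb
  have hTfl : Flat T.hom := K554.FibProd.flat_hom qX hb
  have hTlfp : LocallyOfFinitePresentation T.hom := K554.FibProd.lfp_hom qX hb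
  -- ranks
  have H1 : ∀ (Ω : Type u) [Field Ω] [IsAlgClosed Ω] (yb : Spec (CommRingCat.of Ω) ⟶ Y)
      (P : Scheme.{u}) (g : P ⟶ T.left) (q : P ⟶ Spec (CommRingCat.of Ω)), IsPullback g q (T.hom ≫ f) yb →
      rk q ≤ rk G.hom := by
    intro Ω _ _ yb P g q sq
    rw [rk_fib yb P g q sq, ← rk_bc_group (G := G) (qY := qY) yb]
    exact (hbound Ω yb).1
  -- the generic point
  have H2 := rk_of_section hf b hoc hb (Red.geomPt (genericPoint Y)) (htriv _ (Red.geomPt (genericPoint Y))
    (geomPt_base (genericPoint Y)))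
  -- Stein factorisation
  have hfin : IsFinite (T.hom ≫ f).fromNormalization := Groth.Agent.S1297.result (T.hom ≫ f)
  have hν := (Groth.Agent.S0388.result (T.hom ≫ f)).2
  obtain ⟨U, ν, hUf, hνu, hν⟩ : ∃ (U : Over Y) (ν : T.left ⟶ U.left), IsFinite U.hom ∧ ν ≫ U.hom = T.hom ≫ f ∧
      ∀ V : U.left.Opens, IsIso (ν.app V) :=
    ⟨Over.mk (T.hom ≫ f).fromNormalization, (T.hom ≫ f).toNormalization, hfin,
      (T.hom ≫ f).toNormalization_fromNormalization, hν⟩
  let c : T ⟶ Red.bc f U := Over.homMk (pullback.lift ν T.hom hνu) (pullback.lift_snd _ _ _)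
  have hc1 : c.left ≫ pullback.fst U.hom f = ν := pullback.lift_fst _ _ _
  have hc2 : c.left ≫ pullback.snd U.hom f = T.hom := pullback.lift_snd _ _ _
  let cY : Over.mk (T.hom ≫ f) ⟶ Over.mk (pullback.snd U.hom f ≫ f) := Over.homMk c.left (by
    change c.left ≫ pullback.snd U.hom f ≫ f = T.hom ≫ f
    rw [← Category.assoc, hc2])
  have hfibs : ∀ (Ω : Type u) [Field Ω] [IsAlgClosed Ω] (yb : Spec (CommRingCat.of Ω) ⟶ Y),
      IsIso ((Over.pullback yb).map cY) := by
    intro Ω _ _ yb
    let ν' : (Red.bc (pullback.fst f yb) T).left ⟶ pullback U.hom yb :=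
      pullback.lift (pullback.fst T.hom (pullback.fst f yb) ≫ ν) ((Red.bc (pullback.fst f yb) T).hom ≫ pullback.snd f yb)
        (by rw [Category.assoc, hνu]; exact (isPullback_fib yb T).w)
    have e1 : ν' ≫ pullback.fst U.hom yb = pullback.fst T.hom (pullback.fst f yb) ≫ ν := pullback.lift_fst _ _ _
    have e2 : ν' ≫ pullback.snd U.hom yb = (Red.bc (pullback.fst f yb) T).hom ≫ pullback.snd f yb :=
      pullback.lift_snd _ _ _
    obtain ⟨hr, hi⟩ := Chart.main (T.hom ≫ f) (rk G.hom) H1 _ (Red.geomPt (genericPoint Y))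
      (geomPt_base (genericPoint Y)) (isPullback_fib (Red.geomPt (genericPoint Y)) T) H2 ν hν U.hom hνu yb
      (isPullback_fib yb T) (IsPullback.of_hasPullback U.hom yb) e1 e2
    exact isIso_fib hf b hoc hb yb ((hbound _ yb).2 (by rw [hr, rk_bc_group])) ν hνu e1 e2 c.left hc1 hc2 cY rfl
  have hlfp1 : LocallyOfFinitePresentation (Over.mk (T.hom ≫ f)).hom :=
    inferInstanceAs (LocallyOfFinitePresentation (T.hom ≫ f))
  have hlfp2 : LocallyOfFinitePresentation (Over.mk (pullback.snd U.hom f ≫ f)).hom := by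
    have h1 : LocallyOfFinitePresentation U.hom := LocallyOfFinitePresentation.iff_locallyOfFiniteType.mpr inferInstance
    exact inferInstanceAs (LocallyOfFinitePresentation (pullback.snd U.hom f ≫ f))
  have hfl1 : Flat (Over.mk (T.hom ≫ f)).hom := inferInstanceAs (Flat (T.hom ≫ f))
  have hcY : IsIso cY := Groth.Agent.Sga3B.TorusEtSplit.isIso_of_geomFibres cY (fun s => hfibs _ (Red.geomPt s))
  have hcl : IsIso c.left := inferInstanceAs (IsIso ((Over.forget Y).map cY))
  have hc : IsIso c := by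
    have : IsIso ((Over.forget X).map c) := hcl
    exact isIso_of_reflects_iso c (Over.forget X)
  have hU : LS U.hom := by
    have h1 : LS f := by
      have : Surjective f := OCFib.surjective_of_fibres f hfib
      exact LS.of_flat f
    have h2 : LS (ν ≫ U.hom) := by
      rw [hνu]
      exact h1.comp hb.2
    exact h2.of_comp
  have hGa : IsAffineHom (Red.bc qY G).hom := inferInstanceAs (IsAffineHom (pullback.snd G.hom qY))
  obtain ⟨cU, h1, h2⟩ := exists_descend hf b (asIso c) hoc hb hU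
  exact ⟨U, cU, asIso c, h1, h2⟩

end K996.Descend
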