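import Groth.Prelude.Def_NoriFGS
import Groth.Agent.Books.AffBridge
import Groth.Agent.MiscA.HopfRange
import Mathlib.AlgebraicGeometry.AffineTransitionLimit
import Mathlib.CategoryTheory.Filtered.Connected
import Mathlib.CategoryTheory.Limits.Constructions.Over.Connected
import Mathlib.AlgebraicGeometry.Morphisms.Flat

/-!
# Affine group schemes over a field: images, faithful flatness, pro-finite groups
-/

set_option autoImplicit false
universe u
open CategoryTheory CategoryTheory.Limits MonoidalCategory CartesianMonoidalCategory MonObj GrpObj AlgebraicGeometry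

namespace K996.Group

open Groth.Agent.Books.AffBridge Groth.Agent.MiscA

variable {k : Type u} [Field k]

/-- The functions on `D` inject into the functions on `G`. -/
def Inj {S : Scheme.{u}} {G D : Over S} (ψ : G ⟶ D) : Prop := Function.Injective ψ.left.appTop

theorem inj_iso_comp {S : Scheme.{u}} {G G' D : Over S} (e : G ⟶ G') [IsIso e] (ψ : G' ⟶ D) (h : Inj ψ) :
    Inj (e ≫ ψ) := by
  unfold Inj at *
  have h1 : (e ≫ ψ).left.appTop = ψ.left.appTop ≫ e.left.appTop := by rw [Over.comp_left, Scheme.Hom.comp_appTop]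
  have : IsIso e.left := inferInstanceAs (IsIso ((Over.forget _).map e))
  rw [h1]
  have h3 : IsIso e.left.appTop := inferInstanceAs (IsIso (e.left.app ⊤))
  have h2 : Function.Injective e.left.appTop := (ConcreteCategory.bijective_of_isIso e.left.appTop).1
  exact h2.comp h

theorem isAffine_of_finite (G : Over (Spec (CommRingCat.of k))) [IsFinite G.hom] : IsAffine G.left :=
  isAffine_of_isAffineHom G.hom

theorem inj_specMap {A B : Type u} [CommRing A] [CommRing B] [Algebra k A] [Algebra k B] (f : A →ₐ[k] B)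
    (hf : Function.Injective f) : Inj (specMap k f) := by
  unfold Inj
  have h1 : (specMap k f).left.appTop = (Scheme.ΓSpecIso (CommRingCat.of A)).hom ≫ CommRingCat.ofHom f.toRingHom ≫
      (Scheme.ΓSpecIso (CommRingCat.of B)).inv := by
    rw [← Scheme.ΓSpecIso_naturality_assoc, Iso.hom_inv_id, Category.comp_id]
    rfl
  rw [h1]
  have h2 := (ConcreteCategory.bijective_of_isIso (Scheme.ΓSpecIso (CommRingCat.of A)).hom).1
  have h3 := (ConcreteCategory.bijective_of_isIso (Scheme.ΓSpecIso (CommRingCat.of B)).inv).1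
  exact h3.comp ((show Function.Injective (CommRingCat.ofHom f.toRingHom) from hf).comp h2)

/-- The image of a homomorphism of affine group schemes over a field. -/
theorem exists_image {G D : Over (Spec (CommRingCat.of k))} [GrpObj G] [GrpObj D] [IsAffine G.left] [IsAffine D.left]
    (ψ : G ⟶ D) [IsMonHom ψ] :
    ∃ (H : Over (Spec (CommRingCat.of k))) (_ : GrpObj H) (i : H ⟶ D) (_ : IsMonHom i) (_ : IsClosedImmersion i.left)
      (ψ' : G ⟶ H) (_ : IsMonHom ψ'), ψ' ≫ i = ψ ∧ Inj ψ' ∧ Flat ψ'.left ∧ Surjective ψ'.left ∧ IsAffine H.left := by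
  obtain ⟨A, _, _, eG, hG⟩ := exists_hopf k G
  obtain ⟨B, _, _, eD, hD⟩ := exists_hopf k D
  have : IsMonHom (eG.inv ≫ ψ ≫ eD.hom) := inferInstance
  obtain ⟨f, hf⟩ := exists_bialgHom_of_isMonHom k (eG.inv ≫ ψ ≫ eD.hom)
  let C := B ⧸ HopfRange.kerI f
  let π : B →ₐc[k] C := Bialgebra.Quotient.mkBialgHom (HopfRange.kerI f)
  have h1 : IsMonHom (specMap k (π : B →ₐ[k] C)) := isMonHom_specMap k π
  have h2 : IsMonHom (specMap k (HopfRange.kerLift f : C →ₐ[k] A)) := isMonHom_specMap k (HopfRange.kerLift f)
  have h3 : specMap k (HopfRange.kerLift f : C →ₐ[k] A) ≫ specMap k (π : B →ₐ[k] C) = specMap k (f : B →ₐ[k] A) := by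
    rw [← specMap_comp]
    rfl
  have iG : IsIso eG.hom.left := inferInstanceAs (IsIso ((Over.forget _).map eG.hom))
  have iD : IsIso eD.inv.left := inferInstanceAs (IsIso ((Over.forget _).map eD.inv))
  have hff : (HopfRange.kerLift f : C →+* A).FaithfullyFlat := HopfRange.faithfullyFlat_kerLift f
  have c1 : IsClosedImmersion (specMap k (π : B →ₐ[k] C)).left :=
    IsClosedImmersion.spec_of_surjective _ Ideal.Quotient.mk_surjective
  have c2 : Flat (specMap k (HopfRange.kerLift f : C →ₐ[k] A)).left := by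
    change Flat (Spec.map (CommRingCat.ofHom (HopfRange.kerLift f : C →ₐ[k] A).toRingHom))
    rw [Flat.SpecMap_iff]
    exact hff.flat
  have c3 : Surjective (specMap k (HopfRange.kerLift f : C →ₐ[k] A)).left := by
    change Surjective (Spec.map (CommRingCat.ofHom (HopfRange.kerLift f : C →ₐ[k] A).toRingHom))
    exact ⟨(RingHom.FaithfullyFlat.iff_flat_and_comap_surjective.mp hff).2⟩
  refine ⟨SpecOver k C, inferInstance, specMap k (π : B →ₐ[k] C) ≫ eD.inv, inferInstance, ?_,
    eG.hom ≫ specMap k (HopfRange.kerLift f : C →ₐ[k] A), inferInstance, ?_, ?_, ?_, ?_, ?_⟩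
  · rw [Over.comp_left]; infer_instance
  · rw [Category.assoc, reassoc_of% h3, hf]
    simp
  · exact inj_iso_comp _ _ (inj_specMap _ (HopfRange.kerLift_injective f))
  · rw [Over.comp_left]; infer_instance
  · rw [Over.comp_left]; infer_instance
  · exact inferInstanceAs (IsAffine (Spec _))

/-- A homomorphism of affine group schemes over a field is faithfully flat as soon as it is injective on functions. -/
theorem flat_surjective_of_inj {G D : Over (Spec (CommRingCat.of k))} [GrpObj G] [GrpObj D] [IsAffine G.left]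
    [IsAffine D.left] (ψ : G ⟶ D) [IsMonHom ψ] (h : Inj ψ) : Flat ψ.left ∧ Surjective ψ.left := by
  obtain ⟨H, _, i, _, _, ψ', _, hψ, hi, hf, hs, hH⟩ := exists_image ψ
  have h1 : IsIso i.left := by
    apply IsClosedImmersion.isIso_of_injective_of_isAffine
    have h2 : ψ.left.appTop = i.left.appTop ≫ ψ'.left.appTop := by
      rw [← hψ, Over.comp_left, Scheme.Hom.comp_appTop]
    unfold Inj at h
    rw [h2] at h
    exact Function.Injective.of_comp (f := ψ'.left.appTop) (g := i.left.appTop) h
  rw [← hψ, Over.comp_left]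
  exact ⟨inferInstance, inferInstance⟩

/-- A closed subgroup through which an injective-on-functions homomorphism factors is everything. -/
theorem isIso_of_inj {S : Scheme.{u}} {G D H : Over S} [IsAffine D.left] (ψ : G ⟶ D) (h : Inj ψ) (i : H ⟶ D)
    [IsClosedImmersion i.left] (ψ' : G ⟶ H) (hψ : ψ' ≫ i = ψ) : IsIso i := by
  have h1 : IsIso i.left := by
    apply IsClosedImmersion.isIso_of_injective_of_isAffine
    have h2 : ψ.left.appTop = i.left.appTop ≫ ψ'.left.appTop := by
      rw [← hψ, Over.comp_left, Scheme.Hom.comp_appTop]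
    unfold Inj at h
    rw [h2] at h
    exact Function.Injective.of_comp (f := ψ'.left.appTop) (g := i.left.appTop) h
  exact (Over.isoMk (asIso i.left) (Over.w i)).isIso_hom

section profinite

variable {πN : Over (Spec (CommRingCat.of k))} [GrpObj πN]

attribute [local instance] NoriFGS.ProFinPres.cat NoriFGS.ProFinPres.cofiltered NoriFGS.ProFinPres.grp
  NoriFGS.ProFinPres.finite NoriFGS.ProFinPres.isMonHom_π NoriFGS.ProFinPres.isMonHom_map

/-- The limit cone of schemes of a pro-finite presentation. -/
noncomputable def limForget (D : NoriFGS.ProFinPres πN) :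
    IsLimit ((Over.forget (Spec (CommRingCat.of k))).mapCone (Cone.mk πN D.π)) := by
  have : IsConnected D.I := IsCofiltered.isConnected D.I
  exact isLimitOfPreserves _ D.isLimit

theorem isAffine_of_isProFinite (h : NoriFGS.IsProFinite πN) : IsAffine πN.left := by
  obtain ⟨D⟩ := h
  have : ∀ i, IsAffine ((D.D ⋙ Over.forget (Spec (CommRingCat.of k))).obj i) := fun i =>
    isAffine_of_finite (D.D.obj i)
  exact Scheme.isAffine_of_isLimit _ (limForget D)

/-- Finitely many functions on a pro-finite group scheme come from a finite quotient. -/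
theorem exists_finite_quotient (h : NoriFGS.IsProFinite πN) {J : Type} [Finite J] (s : J → Γ(πN.left, ⊤)) :
    ∃ (D : Over (Spec (CommRingCat.of k))) (_ : GrpObj D) (_ : IsFinite D.hom) (ψ : πN ⟶ D) (_ : IsMonHom ψ)
      (t : J → Γ(D.left, ⊤)), ∀ j, ψ.left.appTop (t j) = s j := by
  obtain ⟨D⟩ := h
  have h1 : ∀ i, IsAffine ((D.D ⋙ Over.forget (Spec (CommRingCat.of k))).obj i) := fun i =>
    isAffine_of_finite (D.D.obj i)
  choose i t ht using fun j => exists_appTop_π_eq_of_isAffine_of_isLimit
    (D.D ⋙ Over.forget (Spec (CommRingCat.of k))) _ (limForget D) (s j)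
  classical
  have := Fintype.ofFinite J
  obtain ⟨i₀, hf⟩ := IsCofiltered.inf_objs_exists (C := D.I) (Finset.univ.image i)
  have h2 : ∀ j, Nonempty (i₀ ⟶ i j) := fun j => hf (Finset.mem_image_of_mem i (Finset.mem_univ j))
  let f := fun j => (h2 j).some
  refine ⟨D.D.obj i₀, D.grp i₀, D.finite i₀, D.π.app i₀, D.isMonHom_π i₀, fun j => (D.D.map (f j)).left.appTop (t j), fun j => ?_⟩
  have h3 : D.π.app i₀ ≫ D.D.map (f j) = D.π.app (i j) := (Cone.mk πN D.π).w (f j)
  have h4 : (D.D.map (f j)).left.appTop ≫ (D.π.app i₀).left.appTop = (D.π.app (i j)).left.appTop := by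
    rw [← Scheme.Hom.comp_appTop, ← Over.comp_left, h3]
  have h5 := congrArg (fun z => z (t j)) (congrArg CommRingCat.Hom.hom h4)
  exact h5.trans (ht j)

/-- Homomorphisms to a pro-finite group are determined by the finite quotients. -/
theorem hom_ext_profinite (h : NoriFGS.IsProFinite πN) {T : Over (Spec (CommRingCat.of k))} {a b : T ⟶ πN}
    (hab : ∀ (D : Over (Spec (CommRingCat.of k))) [GrpObj D] [IsFinite D.hom] (ψ : πN ⟶ D) [IsMonHom ψ],
      a ≫ ψ = b ≫ ψ) : a = b := by
  obtain ⟨D⟩ := h
  apply D.isLimit.hom_ext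
  intro i
  exact hab (D.D.obj i) (D.π.app i)

end profinite

end K996.Group
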