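import Groth.Agent.Ega3B.EtAffine
import Groth.Agent.NoriFGS.K996.ConstRank
import Mathlib.RingTheory.TensorProduct.IsBaseChangeHom
import Mathlib.LinearAlgebra.Contraction

/-!
# Base change for `H⁰` of a proper flat scheme when the representing module is projective
-/

set_option autoImplicit false
set_option linter.style.haveILetI false
universe u
open CategoryTheory CategoryTheory.Limits AlgebraicGeometry TensorProduct
open Groth.Agent.Ega3B Groth.Agent.Ega3B.EqzSections Groth.Agent.Ega3B.EtTheta Groth.Agent.Ega3B.EtExchange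
open Groth.Agent.Ega3B.EtAffine

namespace K996.H0BC

section fam

variable {A B : Type u} [CommRing A] [CommRing B] [Algebra A B] {X Y : Scheme.{u}}
  {π : X ⟶ Spec (CommRingCat.of A)} {g : Y ⟶ X} {q : Y ⟶ Spec (CommRingCat.of B)}
  (H : IsPullback g q π (Spec.map (CommRingCat.ofHom (algebraMap A B))))
  {ι : Type u} (U : ι → X.Opens) (hU : ∀ i, IsAffineOpen (U i))
  (hUU : ∀ i j, IsAffineOpen (U i ⊓ U j)) (hcov : ⨆ i, U i = ⊤)

theorem res_res {V V' V'' : Y.Opens} (h : V' ≤ V) (h' : V'' ≤ V') (t : Sec q V) :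
    res q h' (res q h t) = res q (h'.trans h) t := by
  change (Y.presheaf.map _).hom ((Y.presheaf.map _).hom t) = (Y.presheaf.map _).hom t
  rw [← CommRingCat.comp_apply, ← Y.presheaf.map_comp]
  rfl

/-- Functions on `X_B` as compatible families. -/
noncomputable def fam : Sec q (⊤ : Y.Opens) →+ EM (rr π U) (ss π U) B where
  toFun t := ⟨fun i => (bcEquiv H (U i) (hU i)).symm (res q le_top t), by
    rw [mem_EM]
    intro i j
    apply (bcEquiv H (U i ⊓ U j) (hUU i j)).injective
    have h1 := res_bcEquiv H (hU i) (hUU i j) inf_le_left ((bcEquiv H (U i) (hU i)).symm (res q le_top t))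
    have h2 := res_bcEquiv H (hU j) (hUU i j) inf_le_right ((bcEquiv H (U j) (hU j)).symm (res q le_top t))
    rw [RingEquiv.apply_symm_apply, res_res] at h1 h2
    exact h1.symm.trans h2⟩
  map_zero' := by
    apply Subtype.ext
    funext i
    simp
  map_add' s t := by
    apply Subtype.ext
    funext i
    simp

theorem fam_apply (t : Sec q (⊤ : Y.Opens)) (i : ι) :
    (fam H U hU hUU t).1 i = (bcEquiv H (U i) (hU i)).symm (res q le_top t) := rfl

include hcov in
theorem fam_bijective : Function.Bijective (fam H U hU hUU) := by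
  constructor
  · intro s t h
    apply section_ext (g := g) U hcov
    intro i
    have h1 := congrFun (congrArg Subtype.val h) i
    rw [fam_apply, fam_apply] at h1
    exact (bcEquiv H (U i) (hU i)).symm.injective h1
  · intro x
    obtain ⟨t, ht⟩ := exists_section H U hU hUU hcov x
    refine ⟨t, Subtype.ext (funext fun i => ?_)⟩
    rw [fam_apply, ht i, RingEquiv.symm_apply_apply]

theorem rTensor_mulLeft (b : B) {C : Type u} [CommRing C] [Algebra A C] (x : B ⊗[A] C) :
    (LinearMap.mulLeft A b).rTensor C x = (b ⊗ₜ[A] 1) * x := by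
  induction x using TensorProduct.induction_on with
  | zero => simp
  | add x y hx hy => simp only [map_add, mul_add, hx, hy]
  | tmul b' c => simp

theorem fam_smul (b : B) (t : Sec q (⊤ : Y.Opens)) :
    fam H U hU hUU (b • t) = emap _ _ (LinearMap.mulLeft A b) (fam H U hU hUU t) := by
  apply Subtype.ext
  funext i
  rw [emap_apply, rTensor_mulLeft, fam_apply, fam_apply]
  apply (bcEquiv H (U i) (hU i)).injective
  rw [map_mul, RingEquiv.apply_symm_apply, RingEquiv.apply_symm_apply, bcEquiv_tmul_one, map_smul,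
    Algebra.smul_def]

theorem fam_app (s : Sec π (⊤ : X.Opens)) :
    fam H U hU hUU ((g.app ⊤).hom s : Sec q (⊤ : Y.Opens)) =
      emap _ _ (Algebra.linearMap A B) (gamma π U s) := by
  apply Subtype.ext
  funext i
  rw [emap_apply, gamma_apply, fam_apply, LinearMap.rTensor_tmul]
  apply (bcEquiv H (U i) (hU i)).injective
  rw [RingEquiv.apply_symm_apply, Algebra.linearMap_apply, map_one, bcEquiv_one_tmul]
  have h3 := Scheme.Hom.naturality g (homOfLE (le_top : U i ≤ ⊤)).op
  exact (congrArg (fun φ => φ.hom s) h3).symm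

end fam

section alg

variable {A B : Type u} [CommRing A] [CommRing B] [Algebra A B] {X Y : Scheme.{u}}
  {π : X ⟶ Spec (CommRingCat.of A)} {g : Y ⟶ X} {q : Y ⟶ Spec (CommRingCat.of B)}

theorem app_algebraMap (H : IsPullback g q π (Spec.map (CommRingCat.ofHom (algebraMap A B)))) (a : A) :
    ((g.app ⊤).hom (algebraMap A (Sec π (⊤ : X.Opens)) a) : Sec q (⊤ : Y.Opens)) =
      algebraMap B (Sec q (⊤ : Y.Opens)) (algebraMap A B a) := by
  have h1 : (Scheme.ΓSpecIso (CommRingCat.of A)).inv ≫ π.appTop ≫ g.appTop =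
      CommRingCat.ofHom (algebraMap A B) ≫ (Scheme.ΓSpecIso (CommRingCat.of B)).inv ≫ q.appTop := by
    rw [← Scheme.Hom.comp_appTop, H.w, Scheme.Hom.comp_appTop, Scheme.ΓSpecIso_inv_naturality_assoc]
  have h2 : ∀ {R : Type u} [CommRing R] {Z : Scheme.{u}} (r : Z ⟶ Spec (CommRingCat.of R)),
      r.appLE ⊤ ⊤ (le_preimage_top r ⊤) = r.appTop := by
    intro R _ Z r
    exact Scheme.Hom.appLE_eq_app r
  have h3 := congrArg (fun φ => φ.hom a) h1
  change (g.app ⊤).hom ((π.appLE ⊤ ⊤ (le_preimage_top π ⊤)).hom ((Scheme.ΓSpecIso (CommRingCat.of A)).inv.hom a)) =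
    (q.appLE ⊤ ⊤ (le_preimage_top q ⊤)).hom ((Scheme.ΓSpecIso (CommRingCat.of B)).inv.hom (algebraMap A B a))
  rw [h2, h2]
  exact h3

end alg

section proj

theorem compRight_bijective {A : Type u} [CommRing A] {Q : Type u} [AddCommGroup Q] [Module A Q] [Module.Finite A Q]
    [Module.Projective A Q] (B : Type u) [CommRing B] [Algebra A B] :
    Function.Bijective (IsBaseChange.linearMapRightBaseChangeHom B Q (Algebra.linearMap A B)) := by
  have h := dualTensorHom_bijective (R := A) (M := Q) (N := B)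
  have h2 : (IsBaseChange.linearMapRightBaseChangeHom B Q (Algebra.linearMap A B) : _ → _) =
      dualTensorHom A Q B ∘ TensorProduct.comm A B (Q →ₗ[A] A) := by
    funext x
    induction x using TensorProduct.induction_on with
    | zero => simp
    | add x y hx hy => simp only [map_add, hx, hy, Function.comp_apply]
    | tmul b φ =>
      ext y
      simp [IsBaseChange.linearMapRightBaseChangeHom, mul_comm, Algebra.smul_def]
  rw [h2]
  exact h.comp (TensorProduct.comm A B (Q →ₗ[A] A)).bijective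

end proj

section main

variable {A : Type u} [CommRing A] [IsNoetherianRing A] {X : Scheme.{u}} (π : X ⟶ Spec (CommRingCat.of A))
  [IsProper π] [Flat π]

theorem exists_theta_str :
    ∃ (Q : ModuleCat.{u} A) (_ : Module.Finite A Q) (θ : ∀ (M : Type u) [AddCommGroup M] [Module A M],
      EM (rr π (cov X)) (ss π (cov X)) M ≃+ (Q →ₗ[A] M)),
      ∀ (M N : Type u) [AddCommGroup M] [Module A M] [AddCommGroup N] [Module A N]
        (g : M →ₗ[A] N) (x : EM (rr π (cov X)) (ss π (cov X)) M),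
        θ N (emap _ _ g x) = g ∘ₗ θ M x := by
  letI : X.Over (Spec (CommRingCat.of A)) := ⟨π⟩
  haveI : IsProper (X ↘ Spec (CommRingCat.of A)) := ‹IsProper π›
  haveI : Flat (X ↘ Spec (CommRingCat.of A)) := ‹Flat π›
  exact exists_theta' X A

/-- `Γ(X_B) = Hom(Q, B)`. -/
theorem exists_rep : ∃ (Q : ModuleCat.{u} A) (_ : Module.Finite A Q) (e₀ : Sec π (⊤ : X.Opens) ≃ₗ[A] (Q →ₗ[A] A)),
    ∀ (B : Type u) [CommRing B] [Algebra A B] (Y : Scheme.{u}) (g : Y ⟶ X) (q : Y ⟶ Spec (CommRingCat.of B))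
      (_ : IsPullback g q π (Spec.map (CommRingCat.ofHom (algebraMap A B)))),
      ∃ e : Sec q (⊤ : Y.Opens) ≃ₗ[B] (Q →ₗ[A] B), ∀ s : Sec π (⊤ : X.Opens),
        e ((g.app ⊤).hom s : Sec q (⊤ : Y.Opens)) = Algebra.linearMap A B ∘ₗ e₀ s := by
  obtain ⟨Q, hQ, θ, hθ⟩ := exists_theta_str π
  have hU : ∀ i : X.affineOpens, IsAffineOpen (cov X i) := fun i => i.2
  have hUU : ∀ i j : X.affineOpens, IsAffineOpen (cov X i ⊓ cov X j) := fun i j => isAffineOpen_inf π i.2 j.2
  have hcov := iSup_affineOpens_eq_top X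
  refine ⟨Q, hQ, (LinearEquiv.ofBijective (gamma π (cov X)) (gamma_bijective π (cov X) hcov)).trans
    (thetaLin _ _ θ hθ A), fun B _ _ Y g q H => ?_⟩
  let e' : Sec q (⊤ : Y.Opens) ≃+ (Q →ₗ[A] B) :=
    (AddEquiv.ofBijective (fam H (cov X) hU hUU) (fam_bijective H (cov X) hU hUU hcov)).trans (θ B)
  refine ⟨{ e' with map_smul' := fun b t => ?_ }, fun s => ?_⟩
  · change θ B (fam H (cov X) hU hUU (b • t)) = b • θ B (fam H (cov X) hU hUU t)
    rw [fam_smul, hθ]
    ext y
    simp
  · change θ B (fam H (cov X) hU hUU _) = _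
    rw [fam_app, hθ]
    rfl

/-- `Γ(X) ⊗ B = Γ(X_B)` for all `B` when the fibre dimensions are constant. -/
theorem isPushout_of_ranks [IsDomain A] (n : ℕ)
    (h1 : ∀ (Ω : Type u) [Field Ω] [IsAlgClosed Ω] [Algebra A Ω] (Y : Scheme.{u}) (g : Y ⟶ X)
      (q : Y ⟶ Spec (CommRingCat.of Ω)) (_ : IsPullback g q π (Spec.map (CommRingCat.ofHom (algebraMap A Ω)))),
      Module.finrank Ω (Sec q (⊤ : Y.Opens)) ≤ n)
    (L : Type u) [Field L] [Algebra A L] (hL : Function.Injective (algebraMap A L)) {YL : Scheme.{u}} {gL : YL ⟶ X}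
    {qL : YL ⟶ Spec (CommRingCat.of L)} (HL : IsPullback gL qL π (Spec.map (CommRingCat.ofHom (algebraMap A L))))
    (h2 : Module.finrank L (Sec qL (⊤ : YL.Opens)) = n) :
    (∀ (B : Type u) [CommRing B] [Algebra A B] (Y : Scheme.{u}) (g : Y ⟶ X) (q : Y ⟶ Spec (CommRingCat.of B))
      (_ : IsPullback g q π (Spec.map (CommRingCat.ofHom (algebraMap A B)))),
      IsPushout (CommRingCat.ofHom (algebraMap A B)) (CommRingCat.ofHom (algebraMap A (Sec π (⊤ : X.Opens))))
        (CommRingCat.ofHom (algebraMap B (Sec q (⊤ : Y.Opens))))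
        (CommRingCat.ofHom (R := Sec π (⊤ : X.Opens)) (S := Sec q (⊤ : Y.Opens)) (g.app ⊤).hom)) ∧
    ∀ (Ω : Type u) [Field Ω] [Algebra A Ω] (Y : Scheme.{u}) (g : Y ⟶ X)
      (q : Y ⟶ Spec (CommRingCat.of Ω)) (_ : IsPullback g q π (Spec.map (CommRingCat.ofHom (algebraMap A Ω)))),
      Module.finrank Ω (Sec q (⊤ : Y.Opens)) = n := by
  obtain ⟨Q, hQ, e₀, he⟩ := exists_rep π
  have h1' : ∀ (Ω : Type u) [Field Ω] [IsAlgClosed Ω] [Algebra A Ω], Module.finrank Ω (Q →ₗ[A] Ω) ≤ n := by
    intro Ω _ _ _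
    have H := IsPullback.of_hasPullback π (Spec.map (CommRingCat.ofHom (algebraMap A Ω)))
    obtain ⟨e, -⟩ := he Ω _ _ _ H
    rw [← e.finrank_eq]
    exact h1 Ω _ _ _ H
  have h2' : Module.finrank L (Q →ₗ[A] L) = n := by
    obtain ⟨e, -⟩ := he L _ _ _ HL
    rw [← e.finrank_eq, h2]
  have hproj : Module.Projective A Q := ConstRank.projective_of_ranks Q n h1' L hL h2'
  refine ⟨fun B _ _ Y g q H => ?_, fun Ω _ _ Y g q H => ?_⟩
  · obtain ⟨e, hes⟩ := he B _ _ _ H
    letI : Algebra (Sec π (⊤ : X.Opens)) (Sec q (⊤ : Y.Opens)) :=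
      RingHom.toAlgebra (R := Sec π (⊤ : X.Opens)) (S := Sec q (⊤ : Y.Opens)) (g.app ⊤).hom
    letI : Algebra A (Sec q (⊤ : Y.Opens)) := ((algebraMap B (Sec q (⊤ : Y.Opens))).comp (algebraMap A B)).toAlgebra
    haveI : IsScalarTower A B (Sec q (⊤ : Y.Opens)) := IsScalarTower.of_algebraMap_eq' rfl
    haveI : IsScalarTower A (Sec π (⊤ : X.Opens)) (Sec q (⊤ : Y.Opens)) :=
      IsScalarTower.of_algebraMap_eq fun a => (app_algebraMap H a).symm
    refine (CommRingCat.isPushout_iff_isPushout (R := A) (R' := B) (S := Sec π (⊤ : X.Opens))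
      (S' := Sec q (⊤ : Y.Opens))).mpr ⟨IsBaseChange.of_equiv ((AlgebraTensorModule.congr (LinearEquiv.refl B B) e₀).trans
      ((LinearEquiv.ofBijective _ (compRight_bijective (Q := Q) B)).trans e.symm)) fun s => ?_⟩
    change e.symm _ = _
    rw [LinearEquiv.symm_apply_eq]
    refine Eq.trans ?_ (hes s).symm
    ext y
    simp [IsBaseChange.linearMapRightBaseChangeHom]
  · obtain ⟨e, -⟩ := he Ω _ _ _ H
    rw [e.finrank_eq]
    exact ConstRank.finrank_eq_of_ranks Q n h1' L hL h2' Ω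

end main

end K996.H0BC
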