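import Groth.Agent.NoriFGS.K996.KAct

/-!
# Pull-back of torsors under groups from a base, and induced homomorphisms

`f : X ⟶ Y` over `S`; `pb f hf c` is the pull-back to `X` of an action `c` of `H ×_S Y` on a `Y`-scheme, as an action of
`H ×_S X`.
-/

set_option autoImplicit false
universe u
open CategoryTheory CategoryTheory.Limits MonoidalCategory CartesianMonoidalCategory MonObj GrpObj AlgebraicGeometry

namespace K996.Induced

open AlgGrp AlgGrp.Action K996.Pts K996.KAct

section restr

variable {S : Scheme.{u}} {G H K P Q : Over S} [GrpObj G] [GrpObj H] [GrpObj K]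

theorem restrict_restrict (φ : H ⟶ G) [IsMonHom φ] (χ : K ⟶ H) [IsMonHom χ] (a : Action G P) :
    (a.restrict φ).restrict χ = a.restrict (χ ≫ φ) :=
  ext_sm fun T g p => by rw [sm_restrict, sm_restrict, sm_restrict, Category.assoc]

theorem restrict_congr {φ ψ : H ⟶ G} [IsMonHom φ] [IsMonHom ψ] (h : φ = ψ) (a : Action G P) :
    a.restrict φ = a.restrict ψ := by subst h; rfl

theorem restrict_id (a : Action G P) : a.restrict (𝟙 G) = a :=
  ext_sm fun T g p => by rw [sm_restrict, Category.comp_id]

theorem isEquivariant_restrict {a : Action G P} {b : Action G Q} {f : P ⟶ Q} (h : IsEquivariant a b f)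
    (φ : H ⟶ G) [IsMonHom φ] : IsEquivariant (a.restrict φ) (b.restrict φ) f := by
  rw [isEquivariant_iff] at h ⊢
  intro T g p
  rw [sm_restrict, sm_restrict, h]

theorem isPseudoTorsorSch_restrict_iso {a : Action G P} (h : NonAbH1.IsPseudoTorsorSch a) (e : H ⟶ G) [IsMonHom e]
    [IsIso e] : NonAbH1.IsPseudoTorsorSch (a.restrict e) := by
  rw [isPseudoTorsorSch_iff] at h ⊢
  intro T p p'
  obtain ⟨g, hg, hu⟩ := h T p p'
  dsimp only at hg hu
  refine ⟨g ≫ inv e, ?_, fun g' hg' => ?_⟩
  · dsimp only
    rw [sm_restrict, Category.assoc, IsIso.inv_hom_id, Category.comp_id, hg]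
  · dsimp only at hg'
    rw [sm_restrict] at hg'
    rw [← hu _ hg', Category.assoc, IsIso.hom_inv_id, Category.comp_id]

end restr

variable {S X Y : Scheme.{u}} {qX : X ⟶ S} {qY : Y ⟶ S} (f : X ⟶ Y) (hf : f ≫ qY = qX)
variable {H H' : Over S} [GrpObj H] [GrpObj H']

/-- The pull-back of an action. -/
noncomputable def pb {U : Over Y} (c : Action (Red.bc qY H) U) : Action (Red.bc qX H) (Red.bc f U) :=
  (c.bc f).restrict (ActBC.bcCompIso f qY H hf).inv

theorem pb_isTorsorFor {U : Over Y} {c : Action (Red.bc qY H) U} (K : Precoverage Scheme.{u})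
    [K.IsStableUnderBaseChange] (hc : NonAbH1.IsTorsorFor K c) : NonAbH1.IsTorsorFor K (pb f hf c) := by
  have h := NonAbH1.isTorsorFor_bc f K hc
  exact ⟨isPseudoTorsorSch_restrict_iso h.1 _, h.2⟩

omit [GrpObj H] [GrpObj H'] in
theorem bcCompIso_inv_naturality (χ : H ⟶ H') :
    (ActBC.bcCompIso f qY H hf).inv ≫ (Over.pullback f).map ((Over.pullback qY).map χ) =
      (Over.pullback qX).map χ ≫ (ActBC.bcCompIso f qY H' hf).inv := by
  rw [Iso.inv_comp_eq, ← Category.assoc, Iso.eq_comp_inv]
  exact ActBC.bcCompIso_hom_naturality f qY hf χ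

theorem pb_map {U U' : Over Y} {c : Action (Red.bc qY H) U} {c' : Action (Red.bc qY H') U'} {χ : H ⟶ H'} [IsMonHom χ]
    {r : U ⟶ U'} (h : IsEquivariant c (c'.restrict ((Over.pullback qY).map χ)) r) :
    IsEquivariant (pb f hf c) ((pb f hf c').restrict ((Over.pullback qX).map χ)) ((Over.pullback f).map r) := by
  have h1 := isEquivariant_bc f h
  have h2 := isEquivariant_restrict h1 (ActBC.bcCompIso f qY H hf).inv
  have h3 : ((c'.restrict ((Over.pullback qY).map χ)).bc f).restrict (ActBC.bcCompIso f qY H hf).inv =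
      (pb f hf c').restrict ((Over.pullback qX).map χ) := by
    apply ext_sm
    intro T g p
    rw [sm_restrict, bc_restrict, sm_restrict, pb, sm_restrict, sm_restrict, Category.assoc, Category.assoc,
      bcCompIso_inv_naturality]
  rw [← h3]
  exact h2

theorem isInducedHom_iff {P : Over X} {P' : Over Y} (a : Action (Red.bc qX H) P) (a' : Action (Red.bc qY H') P')
    {φ : H ⟶ H'} [IsMonHom φ] (g : P ⟶ Red.bc f P') :
    IsEquivariant (a.restrict (ActBC.bcCompIso f qY H hf).hom)
      ((a'.bc f).restrict ((Over.pullback f).map ((Over.pullback qY).map φ))) g ↔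
    IsEquivariant a ((pb f hf a').restrict ((Over.pullback qX).map φ)) g := by
  rw [isEquivariant_iff, isEquivariant_iff]
  constructor
  · intro h T s p
    have h1 := h T (s ≫ (ActBC.bcCompIso f qY H hf).inv) p
    rw [sm_restrict, sm_restrict, Category.assoc, Iso.inv_hom_id, Category.comp_id] at h1
    rw [h1, sm_restrict, pb, sm_restrict, Category.assoc, Category.assoc, bcCompIso_inv_naturality]
  · intro h T s p
    have h1 := h T (s ≫ (ActBC.bcCompIso f qY H hf).hom) p
    rw [sm_restrict, pb, sm_restrict, Category.assoc, Category.assoc, ← bcCompIso_inv_naturality,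
      Iso.hom_inv_id_assoc] at h1
    rw [sm_restrict, h1, sm_restrict]

/-- The projection from the total space of the pull-back, over the base. -/
noncomputable def proj (U : Over Y) : (Over.map qX).obj (Red.bc f U) ⟶ (Over.map qY).obj U :=
  Over.homMk (pullback.fst U.hom f) (by
    change pullback.fst U.hom f ≫ U.hom ≫ qY = pullback.snd U.hom f ≫ qX
    rw [← Category.assoc, pullback.condition, Category.assoc, hf])

theorem proj_left (U : Over Y) : (proj f hf U).left = pullback.fst U.hom f := rfl

end K996.Induced
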