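import Groth.Agent.NoriFGS.K996.Conj
import Groth.Agent.NoriFGS.K996.Group
import Groth.Agent.NoriFGS.K996.Induced
import Groth.Agent.NonAbH1.K554.Fpqc
import Groth.Agent.S14540
import Groth.Agent.S14541

/-!
# Nori-reduced pointed torsors and homomorphisms from the fundamental group scheme

A pointed `H`-torsor is Nori-reduced iff the corresponding `πN ⟶ H` factors through no proper closed subgroup iff it is
injective on functions.
-/

set_option autoImplicit false
universe u
open CategoryTheory CategoryTheory.Limits MonoidalCategory CartesianMonoidalCategory MonObj GrpObj AlgebraicGeometry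

namespace K996.NR

open AlgGrp AlgGrp.Action K996.Pts K996.KAct K996.Sub K996.LocSplit K996.Conj NoriFGS

section desc

theorem ls_prop {W : MorphismProperty Scheme.{u}} [IsZariskiLocalAtTarget W] [W.IsStableUnderBaseChange]
    [W.DescendsAlong (@Surjective ⊓ @Flat ⊓ @QuasiCompact)] {Z X P' : Scheme.{u}} {g : Z ⟶ X} {π : P' ⟶ X} (h : LS π)
    (hW : W (pullback.snd g π)) : W g := by
  obtain ⟨R, hR, hs⟩ := h
  refine K554.Fpqc.prop_of_family W g hR fun S' f hf => ?_
  obtain ⟨s, rfl⟩ := hs f hf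
  exact K554.Fpqc.prop_snd_comp W g π s hW

variable {S : Scheme.{u}}

theorem isClosedImmersion_of_fac {Z W W' A B : Over S} {j : Z ⟶ W} [Mono j] {i : A ⟶ B} [IsClosedImmersion i.left]
    (t : W' ⟶ W) (ht : LS t.left) (h : W' ⟶ B)
    (key : ∀ (T : Over S) (x : T ⟶ W'), Fac j (x ≫ t) ↔ Fac i (x ≫ h)) : IsClosedImmersion j.left := by
  obtain ⟨Z', m, hm, hmT⟩ := exists_preimage h i
  have hMm : Mono m := mono_of_left m
  obtain ⟨z, hz⟩ := (key Z' m).mpr ((hmT Z' m).mp ⟨𝟙 _, Category.id_comp _⟩)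
  have H : IsPullback z m j t := by
    refine ⟨⟨hz⟩, ⟨PullbackCone.IsLimit.mk hz ?_ ?_ ?_ ?_⟩⟩
    · intro s
      exact ((hmT _ s.snd).mpr ((key _ _).mp ⟨s.fst, s.condition⟩)).choose
    · intro s
      have h1 := ((hmT _ s.snd).mpr ((key _ _).mp ⟨s.fst, s.condition⟩)).choose_spec
      rw [← cancel_mono j, Category.assoc, hz, ← Category.assoc, h1, s.condition]
    · intro s
      exact ((hmT _ s.snd).mpr ((key _ _).mp ⟨s.fst, s.condition⟩)).choose_spec
    · intro s l _ h2
      rw [← cancel_mono m, h2]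
      exact ((hmT _ s.snd).mpr ((key _ _).mp ⟨s.fst, s.condition⟩)).choose_spec.symm
  have H' := H.map (Over.forget S)
  refine ls_prop (W := @IsClosedImmersion) ht ?_
  exact (K554.Fpqc.prop_snd_iff_of_isPullback (@IsClosedImmersion) H').mp hm

variable {X : Scheme.{u}} {q : X ⟶ S} {H H' : Over S} [GrpObj H] [GrpObj H'] {V V' : Over X}

/-- An equivariant morphism of torsors along a closed subgroup is a closed immersion. -/
theorem isClosedImmersion_of_isEquivariant {c : Action (Red.bc q H) V} {b : Action (Red.bc q H') V'} {i : H' ⟶ H}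
    [IsMonHom i] [IsClosedImmersion i.left] {j : V' ⟶ V} (hc : NonAbH1.IsPseudoTorsorSch c)
    (hb : NonAbH1.IsTorsorFor Scheme.fpqcPrecoverage b)
    (hj : IsEquivariant b (c.restrict ((Over.pullback q).map i)) j) : IsClosedImmersion j.left := by
  have hM : Mono i := mono_of_left i
  have hjk := (isEquivariant_iff_kact q).mp hj
  have hMj : Mono ((Over.map q).map j) := by
    refine ⟨fun {T} z z' h => ?_⟩
    obtain ⟨g, hg⟩ := trans_of_isPseudoTorsorSch hb.1 z z' (by
      have := congrArg (fun t => t ≫ pr q V) h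
      simpa only [Category.assoc, map_pr] using this)
    have h2 : g ≫ i = 1 := by
      apply free_of_isPseudoTorsorSch hc (w := z ≫ (Over.map q).map j)
      rw [← hjk, hg, sm_one, h]
    have h3 : g = 1 := by rw [← cancel_mono i, h2]; exact (one_comp i).symm
    rw [← hg, h3, sm_one]
  -- the cover `V ×_X V'`
  let T' : Over S := Over.mk (pullback.fst V.hom V'.hom ≫ V.hom ≫ q)
  let t : T' ⟶ (Over.map q).obj V := Over.homMk (pullback.fst V.hom V'.hom) rfl
  have ht : LS t.left := (show LS V'.hom from hb.2).bc (IsPullback.of_hasPullback V.hom V'.hom).flip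
  let w' : T' ⟶ (Over.map q).obj V' := Over.homMk (pullback.snd V.hom V'.hom) (by
    change pullback.snd V.hom V'.hom ≫ V'.hom ≫ q = pullback.fst V.hom V'.hom ≫ V.hom ≫ q
    rw [← pullback.condition_assoc])
  obtain ⟨h, hh⟩ := trans_of_isPseudoTorsorSch hc (w' ≫ (Over.map q).map j) t (by
    rw [Category.assoc, map_pr]
    apply Over.OverMorphism.ext
    exact pullback.condition.symm)
  refine isClosedImmersion_of_fac (j := (Over.map q).map j) (i := i) t ht h (fun T y => ?_)
  constructor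
  · rintro ⟨z, hz⟩
    obtain ⟨g, hg⟩ := trans_of_isPseudoTorsorSch hb.1 (y ≫ w') z (by
      have e1 := congrArg (fun t => t ≫ pr q V) hz
      have e2 := congrArg (fun s => y ≫ s ≫ pr q V) hh
      simp only [Category.assoc, map_pr, sm_kact_pr] at e1 e2 ⊢
      rw [e1, e2])
    refine ⟨g, ?_⟩
    apply free_of_isPseudoTorsorSch hc (w := y ≫ w' ≫ (Over.map q).map j)
    rw [← comp_sm, hh, ← hz, ← hg, hjk, Category.assoc]
  · rintro ⟨g, hg⟩
    refine ⟨sm (kact q b) g (y ≫ w'), ?_⟩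
    rw [hjk, hg, Category.assoc, ← comp_sm, hh]

end desc

section push

variable {k : Type u} [Field k] {X : Scheme.{u}} {q : X ⟶ Spec (CommRingCat.of k)}
  {G H H' : Over (Spec (CommRingCat.of k))} [GrpObj G] [GrpObj H] [GrpObj H'] {P V V' : Over X}

theorem isPush_iff {S : Scheme.{u}} {G G' P P' : Over S} [GrpObj G] [GrpObj G'] {a : Action G P} {a' : Action G' P'}
    {φ : G ⟶ G'} [IsMonHom φ] {f : P ⟶ P'} :
    a.act ≫ f = lift (fst G P ≫ φ) (snd G P ≫ f) ≫ a'.act ↔ IsEquivariant a (a'.restrict φ) f := by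
  rw [isEquivariant_restrict_iff]
  constructor
  · intro h T g p
    rw [sm, Category.assoc, h, comp_lift_assoc, ← Category.assoc, ← Category.assoc, lift_fst, lift_snd, sm]
  · intro h
    have := h _ (fst G P) (snd G P)
    rw [sm, lift_fst_snd, Category.id_comp] at this
    exact this

theorem isAffineHom_bc (G : Over (Spec (CommRingCat.of k))) [IsAffine G.left] : IsAffineHom (Red.bc q G).hom := by
  have : IsAffineHom G.hom := isAffineHom_of_isAffine _
  exact MorphismProperty.pullback_snd (P := @IsAffineHom) G.hom q this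

/-- Extension of the structure group. -/
theorem exists_push {a : Action (Red.bc q G) P} (ha : NonAbH1.IsTorsorFor Scheme.fpqcPrecoverage a) (ψ : G ⟶ H)
    [IsMonHom ψ] [IsAffine G.left] [IsAffine H.left] :
    ∃ (V : Over X) (c : Action (Red.bc q H) V) (r : P ⟶ V), NonAbH1.IsTorsorFor Scheme.fpqcPrecoverage c ∧
      IsEquivariant a (c.restrict ((Over.pullback q).map ψ)) r := by
  have := isAffineHom_bc (q := q) G
  have := isAffineHom_bc (q := q) H
  obtain ⟨P', r, hr⟩ := Groth.Agent.S14540.result ((Over.pullback q).map ψ) ⟨P, a, ha⟩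
  exact ⟨P'.X, P'.act, r, P'.isTorsor, isPush_iff.mp hr⟩

/-- Functoriality of the extension of the structure group. -/
theorem exists_push_hom {a : Action (Red.bc q G) P} (ha : NonAbH1.IsTorsorFor Scheme.fpqcPrecoverage a) {ψ : G ⟶ H'}
    [IsMonHom ψ] {i : H' ⟶ H} [IsMonHom i] {χ : G ⟶ H} [IsMonHom χ] (hχ : ψ ≫ i = χ)
    [IsAffine G.left] [IsAffine H.left] [IsAffine H'.left]
    {b : Action (Red.bc q H') V'} (hb : NonAbH1.IsTorsorFor Scheme.fpqcPrecoverage b)
    {c : Action (Red.bc q H) V} (hc : NonAbH1.IsTorsorFor Scheme.fpqcPrecoverage c)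
    {r' : P ⟶ V'} (hr' : IsEquivariant a (b.restrict ((Over.pullback q).map ψ)) r')
    {r : P ⟶ V} (hr : IsEquivariant a (c.restrict ((Over.pullback q).map χ)) r) :
    ∃! j : V' ⟶ V, IsEquivariant b (c.restrict ((Over.pullback q).map i)) j ∧ r' ≫ j = r := by
  have := isAffineHom_bc (q := q) G
  have := isAffineHom_bc (q := q) H
  have := isAffineHom_bc (q := q) H'
  have hr1 : a.act ≫ r = lift (fst _ P ≫ (Over.pullback q).map ψ ≫ (Over.pullback q).map i) (snd _ P ≫ r) ≫ c.act := by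
    rw [← Functor.map_comp, hχ]
    exact isPush_iff.mpr hr
  have h1 := Groth.Agent.S14541.result ((Over.pullback q).map ψ) ((Over.pullback q).map i) a b c ha hb hc r'
    (isPush_iff.mpr hr') r hr1
  obtain ⟨j, ⟨hj, hj'⟩, hu⟩ := h1
  exact ⟨j, ⟨isPush_iff.mp hj, hj'⟩, fun j' hj' => hu j' ⟨isPush_iff.mpr hj'.1, hj'.2⟩⟩

omit [GrpObj H] [GrpObj H'] in
theorem isFinite_of_isClosedImmersion [IsFinite H.hom] (i : H' ⟶ H) [IsClosedImmersion i.left] : IsFinite H'.hom := by
  rw [← Over.w i]; infer_instance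

end push

section fgs

variable {k : Type u} [Field k] {X : Scheme.{u}} [X.Over (Spec (CommRingCat.of k))] {x : Spec (CommRingCat.of k) ⟶ X}
  {πN H : Over (Spec (CommRingCat.of k))} [GrpObj πN] [GrpObj H] {P V : Over X}
  {a : Action (Red.bc (X ↘ Spec (CommRingCat.of k)) πN) P} {p : Spec (CommRingCat.of k) ⟶ P.left}
  {c : Action (Red.bc (X ↘ Spec (CommRingCat.of k)) H) V} {v : Spec (CommRingCat.of k) ⟶ V.left}

/-- Pointed torsor morphisms from the universal torsor are unique. -/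
theorem fgs_unique (hP : IsFGS x πN a p) [IsFinite H.hom] (hc : NonAbH1.IsTorsorFor Scheme.fpqcPrecoverage c)
    (hv : v ≫ V.hom = x) {ψ ψ' : πN ⟶ H} [IsMonHom ψ] [IsMonHom ψ'] {r r' : P ⟶ V} (h : IsPtTorsorHom a p c v ψ r)
    (h' : IsPtTorsorHom a p c v ψ' r') : ψ = ψ' ∧ r = r' := by
  obtain ⟨φ, _, f, -, hu⟩ := hP.2.2.2 H V c v hc hv
  obtain ⟨h1, h2⟩ := hu ψ r h
  obtain ⟨h3, h4⟩ := hu ψ' r' h'
  exact ⟨h1.trans h3.symm, h2.trans h4.symm⟩

theorem isPtTorsorHom_comp {H' : Over (Spec (CommRingCat.of k))} [GrpObj H'] {V' : Over X}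
    {b : Action (Red.bc (X ↘ Spec (CommRingCat.of k)) H') V'} {v' : Spec (CommRingCat.of k) ⟶ V'.left}
    {ψ : πN ⟶ H'} [IsMonHom ψ] {r : P ⟶ V'} (h : IsPtTorsorHom a p b v' ψ r) {i : H' ⟶ H} [IsMonHom i] {j : V' ⟶ V}
    (hj : IsEquivariant b (c.restrict ((Over.pullback (X ↘ Spec (CommRingCat.of k))).map i)) j)
    (hv : v' ≫ j.left = v) : IsPtTorsorHom a p c v (ψ ≫ i) (r ≫ j) := by
  obtain ⟨h1, h2⟩ := h
  refine ⟨?_, ?_⟩
  · rw [isEquivariant_iff_kact] at h1 hj ⊢
    intro T g w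
    rw [Functor.map_comp, ← Category.assoc, h1, hj, Category.assoc, Category.assoc]
  · rw [Over.comp_left, ← Category.assoc, h2, hv]

/-- If `ψ` factors through no proper closed subgroup, the torsor is Nori-reduced. -/
theorem isNoriReduced_of_min (hx : x ≫ (X ↘ Spec (CommRingCat.of k)) = 𝟙 _) (hP : IsFGS x πN a p) [IsFinite H.hom]
    (hc : NonAbH1.IsTorsorFor Scheme.fpqcPrecoverage c) (hv : v ≫ V.hom = x) {ψ : πN ⟶ H} [IsMonHom ψ] {r : P ⟶ V}
    (hr : IsPtTorsorHom a p c v ψ r)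
    (hmin : ∀ (H'' : Over (Spec (CommRingCat.of k))) [GrpObj H''] (i : H'' ⟶ H) [IsMonHom i] [IsClosedImmersion i.left]
      (ψ'' : πN ⟶ H'') [IsMonHom ψ''], ψ'' ≫ i = ψ → IsIso i) :
    IsNoriReduced Scheme.fpqcPrecoverage c := by
  intro H' _ i' _ _ V' j _ b hb hj
  obtain ⟨H'', _, i, _, _, V'', j'', b'', v'', hb'', hv'', hj'', hiso⟩ := exists_conj hc.1 hb hj hx v hv
  apply hiso
  have hfin : IsFinite H''.hom := isFinite_of_isClosedImmersion i
  obtain ⟨ψ'', _, r'', hr'', -⟩ := hP.2.2.2 H'' V'' b'' v'' hb'' (by rw [← Over.w j'', ← Category.assoc, hv'', hv])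
  exact hmin H'' i ψ'' (fgs_unique hP hc hv (isPtTorsorHom_comp hr'' hj'' hv'') hr).1

theorem isNoriReduced_of_inj (hx : x ≫ (X ↘ Spec (CommRingCat.of k)) = 𝟙 _) (hP : IsFGS x πN a p) [IsFinite H.hom]
    (hc : NonAbH1.IsTorsorFor Scheme.fpqcPrecoverage c) (hv : v ≫ V.hom = x) {ψ : πN ⟶ H} [IsMonHom ψ] {r : P ⟶ V}
    (hr : IsPtTorsorHom a p c v ψ r) (hψ : Group.Inj ψ) : IsNoriReduced Scheme.fpqcPrecoverage c := by
  have : IsAffine H.left := isAffine_of_isAffineHom H.hom
  exact isNoriReduced_of_min hx hP hc hv hr fun H'' _ i _ _ ψ'' _ h => Group.isIso_of_inj ψ hψ i ψ'' h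

/-- The homomorphism attached to a Nori-reduced pointed torsor factors through no proper closed subgroup. -/
theorem min_of_isNoriReduced (hx : x ≫ (X ↘ Spec (CommRingCat.of k)) = 𝟙 _) (hP : IsFGS x πN a p) [IsFinite H.hom]
    (hc : NonAbH1.IsTorsorFor Scheme.fpqcPrecoverage c) (hv : v ≫ V.hom = x) {ψ : πN ⟶ H} [IsMonHom ψ] {r : P ⟶ V}
    (hr : IsPtTorsorHom a p c v ψ r) (hred : IsNoriReduced Scheme.fpqcPrecoverage c)
    (H' : Over (Spec (CommRingCat.of k))) [GrpObj H'] (i : H' ⟶ H) [IsMonHom i] [IsClosedImmersion i.left]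
    (ψ' : πN ⟶ H') [IsMonHom ψ'] (hψ : ψ' ≫ i = ψ) : IsIso i := by
  have h1 : IsAffine πN.left := Group.isAffine_of_isProFinite hP.1
  have h2 : IsAffine H.left := isAffine_of_isAffineHom H.hom
  have h3 : IsAffine H'.left := isAffine_of_isAffineHom i.left
  obtain ⟨V', b, r', hb, hr'⟩ := exists_push hP.2.1 ψ'
  obtain ⟨j, ⟨hj, hrj⟩, -⟩ := exists_push_hom hP.2.1 hψ hb hc hr' hr.1
  have h4 : IsClosedImmersion j.left := isClosedImmersion_of_isEquivariant hc.1 hb hj
  have h5 : IsIso j := hred H' i V' j b hb hj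
  have hM : Mono i := mono_of_left i
  apply isIso_of_fac_id i
  have hv' : (p ≫ r'.left) ≫ V'.hom = x := by
    rw [Category.assoc, Over.w, hP.2.2.1]
  have hmk : mk hx (p ≫ r'.left) hv' H ≫ (Over.map (X ↘ Spec (CommRingCat.of k))).map j = mk hx v hv H := by
    apply Over.OverMorphism.ext
    change (H.hom ≫ p ≫ r'.left) ≫ j.left = H.hom ≫ v
    rw [Category.assoc, Category.assoc, ← Over.comp_left, hrj, hr.2]
  have hjk := (isEquivariant_iff_kact _).mp hj
  obtain ⟨g, hg⟩ := trans_of_isPseudoTorsorSch hb.1 (mk hx (p ≫ r'.left) hv' H)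
    (sm (kact _ c) (𝟙 H) (mk hx v hv H) ≫ (Over.map (X ↘ Spec (CommRingCat.of k))).map (inv j)) (by
      rw [Category.assoc, map_pr, sm_kact_pr, ← hmk, Category.assoc, map_pr])
  refine ⟨g, ?_⟩
  apply free_of_isPseudoTorsorSch hc.1 (w := mk hx v hv H)
  rw [← hmk, ← hjk, hg, Category.assoc, ← Functor.map_comp, IsIso.inv_hom_id, CategoryTheory.Functor.map_id,
    Category.comp_id, hmk]

/-- The homomorphism attached to a Nori-reduced pointed torsor is injective on functions. -/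
theorem inj_of_isNoriReduced (hx : x ≫ (X ↘ Spec (CommRingCat.of k)) = 𝟙 _) (hP : IsFGS x πN a p) [IsFinite H.hom]
    (hc : NonAbH1.IsTorsorFor Scheme.fpqcPrecoverage c) (hv : v ≫ V.hom = x) {ψ : πN ⟶ H} [IsMonHom ψ] {r : P ⟶ V}
    (hr : IsPtTorsorHom a p c v ψ r) (hred : IsNoriReduced Scheme.fpqcPrecoverage c) : Group.Inj ψ := by
  have h1 : IsAffine πN.left := Group.isAffine_of_isProFinite hP.1
  have h2 : IsAffine H.left := isAffine_of_isAffineHom H.hom
  obtain ⟨H', _, i, _, _, ψ', _, hψ, hinj, -⟩ := Group.exists_image ψ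
  have h3 : IsIso i := min_of_isNoriReduced hx hP hc hv hr hred H' i ψ' hψ
  have h4 : IsIso i.left := inferInstanceAs (IsIso ((Over.forget _).map i))
  have h5 : ψ.left.appTop = i.left.appTop ≫ ψ'.left.appTop := by
    rw [← hψ, Over.comp_left, Scheme.Hom.comp_appTop]
  have h6 : IsIso i.left.appTop := inferInstanceAs (IsIso (i.left.app ⊤))
  unfold Group.Inj at hinj ⊢
  rw [h5]
  exact hinj.comp (ConcreteCategory.bijective_of_isIso i.left.appTop).1

end fgs

end K996.NR
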