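import Groth.Agent.NoriFGS.K996.Desc
import Groth.Agent.S0981

/-!
# `O = f_* O` universally from the geometric fibres
-/

set_option autoImplicit false
set_option linter.style.haveILetI false
universe u
open CategoryTheory CategoryTheory.Limits MonoidalCategory CartesianMonoidalCategory MonObj GrpObj AlgebraicGeometry

namespace K996.OCFib

theorem surjective_of_fibres {X Y : Scheme.{u}} (f : X ⟶ Y)
    (hfib : ∀ (Ω : Type u) [Field Ω] (yb : Spec (CommRingCat.of Ω) ⟶ Y),
      AlgebraicGeometry.IsReduced (pullback f yb) ∧ ConnectedSpace ↥(pullback f yb : Scheme.{u})) : Surjective f := by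
  refine ⟨fun y => ?_⟩
  obtain ⟨-, h⟩ := hfib (Y.residueField y) (Y.fromSpecResidueField y)
  obtain ⟨z⟩ : Nonempty (pullback f (Y.fromSpecResidueField y) : Scheme.{u}) := h.toNonempty
  refine ⟨(pullback.fst f (Y.fromSpecResidueField y)).base z, ?_⟩
  have h1 : (pullback.fst f (Y.fromSpecResidueField y) ≫ f).base z =
      (pullback.snd f (Y.fromSpecResidueField y) ≫ Y.fromSpecResidueField y).base z := by
    rw [pullback.condition]
  have h2 : (Y.fromSpecResidueField y).base ((pullback.snd f (Y.fromSpecResidueField y)).base z) = y :=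
    Y.fromSpecResidueField_apply y _
  exact h1.trans h2

theorem oc_of_fibres {X Y : Scheme.{u}} (f : X ⟶ Y) [IsProper f] [Flat f] [LocallyOfFinitePresentation f]
    (hfib : ∀ (Ω : Type u) [Field Ω] (yb : Spec (CommRingCat.of Ω) ⟶ Y),
      AlgebraicGeometry.IsReduced (pullback f yb) ∧ ConnectedSpace ↥(pullback f yb : Scheme.{u})) : Desc.OC f := by
  have hs := surjective_of_fibres f hfib
  refine ⟨fun W => inferInstance, fun W V => ?_, fun W => ?_⟩
  · refine Groth.Agent.S0981.result (pullback.fst W.hom f) (fun K _ _ g => ?_) V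
    obtain ⟨h1, h2⟩ := hfib K (g ≫ W.hom)
    let e : pullback (pullback.fst W.hom f) g ≅ pullback f (g ≫ W.hom) :=
      pullbackSymmetry _ _ ≪≫ pullbackRightPullbackFstIso W.hom f g ≪≫ pullbackSymmetry _ _
    refine ⟨isReduced_of_isOpenImmersion e.hom, ?_⟩
    exact (Scheme.homeoOfIso e).symm.surjective.connectedSpace (Scheme.homeoOfIso e).symm.continuous
  · have : Surjective (pullback.fst W.hom f) := inferInstance
    exact Flat.epi_of_flat_of_surjective _

end K996.OCFib
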