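import Groth.Agent.NoriFGS.K996.NR

/-!
# Pointed pull-backs and the homomorphism induced by a morphism of pointed schemes
-/

set_option autoImplicit false
universe u
open CategoryTheory CategoryTheory.Limits MonoidalCategory CartesianMonoidalCategory MonObj GrpObj AlgebraicGeometry

namespace K996.Ptd

open AlgGrp AlgGrp.Action K996.Pts K996.KAct K996.Sub K996.LocSplit K996.Conj K996.Induced K996.NR NoriFGS

variable {k : Type u} [Field k] {X Y : Scheme.{u}} [X.Over (Spec (CommRingCat.of k))] [Y.Over (Spec (CommRingCat.of k))]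
  {x : Spec (CommRingCat.of k) ⟶ X} {y : Spec (CommRingCat.of k) ⟶ Y} {f : X ⟶ Y}
  {πX πY H : Over (Spec (CommRingCat.of k))} [GrpObj πX] [GrpObj πY] [GrpObj H] {PX : Over X} {PY U : Over Y}
  {aX : Action (Red.bc (X ↘ Spec (CommRingCat.of k)) πX) PX} {aY : Action (Red.bc (Y ↘ Spec (CommRingCat.of k)) πY) PY}
  {pX : Spec (CommRingCat.of k) ⟶ PX.left} {pY : Spec (CommRingCat.of k) ⟶ PY.left}
  {c : Action (Red.bc (Y ↘ Spec (CommRingCat.of k)) H) U} {u : Spec (CommRingCat.of k) ⟶ U.left}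

/-- The marked point of the pull-back. -/
noncomputable def ptp (hfx : x ≫ f = y) (hu : u ≫ U.hom = y) : Spec (CommRingCat.of k) ⟶ (Red.bc f U).left :=
  pullback.lift u x (hu.trans hfx.symm)

omit [X.Over (Spec (CommRingCat.of k))] [Y.Over (Spec (CommRingCat.of k))] in
theorem ptp_fst (hfx : x ≫ f = y) (hu : u ≫ U.hom = y) : ptp hfx hu ≫ pullback.fst U.hom f = u := pullback.lift_fst _ _ _

omit [X.Over (Spec (CommRingCat.of k))] [Y.Over (Spec (CommRingCat.of k))] in
theorem ptp_hom (hfx : x ≫ f = y) (hu : u ≫ U.hom = y) : ptp hfx hu ≫ (Red.bc f U).hom = x := pullback.lift_snd _ _ _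

omit [X.Over (Spec (CommRingCat.of k))] [Y.Over (Spec (CommRingCat.of k))] in
theorem ptp_unique (hfx : x ≫ f = y) (hu : u ≫ U.hom = y) (w : Spec (CommRingCat.of k) ⟶ (Red.bc f U).left)
    (h1 : w ≫ pullback.fst U.hom f = u) (h2 : w ≫ (Red.bc f U).hom = x) : w = ptp hfx hu := by
  apply pullback.hom_ext
  · rw [ptp_fst, h1]
  · exact h2.trans (ptp_hom hfx hu).symm

/-- Pulling back a pointed torsor: the corresponding homomorphism is the composite with the induced one. -/
theorem isPtTorsorHom_induced (hf : f ≫ (Y ↘ Spec (CommRingCat.of k)) = X ↘ Spec (CommRingCat.of k)) (hfx : x ≫ f = y)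
    (hu : u ≫ U.hom = y) (hpX : pX ≫ PX.hom = x)
    {φ : πX ⟶ πY} [IsMonHom φ] {g : PX ⟶ Red.bc f PY}
    (hg : IsEquivariant (aX.restrict (ActBC.bcCompIso f (Y ↘ Spec (CommRingCat.of k)) πX hf).hom)
      ((aY.bc f).restrict ((Over.pullback f).map ((Over.pullback (Y ↘ Spec (CommRingCat.of k))).map φ))) g)
    (hgp : pX ≫ g.left ≫ pullback.fst PY.hom f = pY) {ψ : πY ⟶ H} [IsMonHom ψ] {r : PY ⟶ U}
    (hr : IsPtTorsorHom aY pY c u ψ r) :
    IsPtTorsorHom aX pX (pb f hf c) (ptp hfx hu) (φ ≫ ψ) (g ≫ (Over.pullback f).map r) := by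
  rw [isInducedHom_iff] at hg
  have h1 : IsPtTorsorHom aX pX (pb f hf aY) (pX ≫ g.left) φ g := ⟨hg, rfl⟩
  refine isPtTorsorHom_comp h1 (pb_map f hf hr.1) ?_
  apply ptp_unique
  · rw [Category.assoc, ActBC.pullback_map_left_fst, Category.assoc, ← hr.2, ← hgp]
    simp only [Category.assoc]
  · have e : ((Over.pullback f).map r).left ≫ (Red.bc f U).hom = (Red.bc f PY).hom := Over.w ((Over.pullback f).map r)
    rw [Category.assoc, e, Category.assoc, Over.w, hpX]

end K996.Ptd
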