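import Groth.Agent.NoriFGS.K996.LocSplit

/-!
# Actions of a base-changed group, as actions over the base

`q : X ⟶ S`, `G` a group over `S`, `P` an `X`-scheme with an action `a` of `G ×_S X`.  `kact q a` is the action of
`G` on the `S`-scheme `P`.  Points calculus: `sm`.
-/

set_option autoImplicit false
universe u
open CategoryTheory CategoryTheory.Limits MonoidalCategory CartesianMonoidalCategory MonObj GrpObj AlgebraicGeometry

namespace K996.Pts

open AlgGrp AlgGrp.Action

section sm

variable {S : Scheme.{u}} {G H P Q : Over S} [GrpObj G] [GrpObj H]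

/-- The action on points. -/
noncomputable def sm (a : Action G P) {T : Over S} (g : T ⟶ G) (p : T ⟶ P) : T ⟶ P := lift g p ≫ a.act

theorem sm_one (a : Action G P) {T : Over S} (p : T ⟶ P) : sm a (1 : T ⟶ G) p = p := lift_one_act a p

theorem sm_mul (a : Action G P) {T : Over S} (g h : T ⟶ G) (p : T ⟶ P) : sm a (g * h) p = sm a g (sm a h p) :=
  lift_mul_act a g h p

theorem sm_inv_sm (a : Action G P) {T : Over S} (g : T ⟶ G) (p : T ⟶ P) : sm a g⁻¹ (sm a g p) = p := by
  rw [← sm_mul, inv_mul_cancel, sm_one]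

theorem sm_sm_inv (a : Action G P) {T : Over S} (g : T ⟶ G) (p : T ⟶ P) : sm a g (sm a g⁻¹ p) = p := by
  rw [← sm_mul, mul_inv_cancel, sm_one]

theorem comp_sm (a : Action G P) {T T' : Over S} (f : T' ⟶ T) (g : T ⟶ G) (p : T ⟶ P) :
    f ≫ sm a g p = sm a (f ≫ g) (f ≫ p) := by
  rw [sm, sm, comp_lift_assoc]

theorem sm_restrict (φ : H ⟶ G) [IsMonHom φ] (a : Action G P) {T : Over S} (h : T ⟶ H) (p : T ⟶ P) :
    sm (a.restrict φ) h p = sm a (h ≫ φ) p := lift_restrict_act φ a h p

/-- An action is determined by its effect on points. -/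
theorem ext_sm {a b : Action G P} (h : ∀ (T : Over S) (g : T ⟶ G) (p : T ⟶ P), sm a g p = sm b g p) : a = b :=
  ext' (hom_ext_lift₂ h)

theorem isEquivariant_iff {a : Action G P} {b : Action G Q} {f : P ⟶ Q} :
    IsEquivariant a b f ↔ ∀ (T : Over S) (g : T ⟶ G) (p : T ⟶ P), sm a g p ≫ f = sm b g (p ≫ f) := by
  constructor
  · intro h T g p
    unfold IsEquivariant at h
    rw [sm, Category.assoc, h, ← Category.assoc, lift_whiskerLeft, sm]
  · intro h
    unfold IsEquivariant
    apply hom_ext_lift₂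
    intro T g p
    have := h T g p
    rw [sm, sm, Category.assoc] at this
    rw [this, ← Category.assoc, lift_whiskerLeft]

theorem isEquivariant_restrict_iff {φ : H ⟶ G} [IsMonHom φ] {a : Action H P} {b : Action G Q} {f : P ⟶ Q} :
    IsEquivariant a (b.restrict φ) f ↔
      ∀ (T : Over S) (g : T ⟶ H) (p : T ⟶ P), sm a g p ≫ f = sm b (g ≫ φ) (p ≫ f) := by
  rw [isEquivariant_iff]
  simp only [sm_restrict]

/-- Construction of an action from an operation on points. -/
noncomputable def mkAct (P : Over S) (act : ∀ (T : Over S) (_ : T ⟶ G) (_ : T ⟶ P), T ⟶ P)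
    (nat : ∀ (T T' : Over S) (f : T' ⟶ T) (g : T ⟶ G) (p : T ⟶ P), f ≫ act T g p = act T' (f ≫ g) (f ≫ p))
    (one : ∀ (T : Over S) (p : T ⟶ P), act T 1 p = p)
    (mul : ∀ (T : Over S) (g h : T ⟶ G) (p : T ⟶ P), act T (g * h) p = act T g (act T h p)) : Action G P where
  act := act (G ⊗ P) (fst G P) (snd G P)
  one_act := by
    apply hom_ext_lift₂
    intro T u p
    have hu : u ≫ η[G] = 1 := by rw [Hom.one_def, toUnit_unique (toUnit T) u]
    rw [lift_whiskerRight_assoc, hu, nat, lift_fst, lift_snd, one, leftUnitor_hom, lift_snd]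
  mul_act := by
    apply hom_ext_lift₃
    intro T g g' p
    rw [lift_whiskerRight_assoc, ← Hom.mul_def, nat, lift_fst, lift_snd, mul, lift_lift_associator_hom_assoc,
      lift_whiskerLeft_assoc, nat, lift_fst, lift_snd, nat, lift_fst, lift_snd]

theorem sm_mkAct (P : Over S) (act : ∀ (T : Over S) (_ : T ⟶ G) (_ : T ⟶ P), T ⟶ P)
    (nat : ∀ (T T' : Over S) (f : T' ⟶ T) (g : T ⟶ G) (p : T ⟶ P), f ≫ act T g p = act T' (f ≫ g) (f ≫ p))
    (one : ∀ (T : Over S) (p : T ⟶ P), act T 1 p = p)
    (mul : ∀ (T : Over S) (g h : T ⟶ G) (p : T ⟶ P), act T (g * h) p = act T g (act T h p))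
    {T : Over S} (g : T ⟶ G) (p : T ⟶ P) : sm (mkAct P act nat one mul) g p = act T g p := by
  rw [sm]
  change lift g p ≫ act (G ⊗ P) (fst G P) (snd G P) = _
  rw [nat, lift_fst, lift_snd]

/-- Pseudo-torsors in terms of points. -/
theorem isPseudoTorsorSch_iff {a : Action G P} :
    NonAbH1.IsPseudoTorsorSch a ↔ ∀ (T : Over S) (p p' : T ⟶ P), ∃! g : T ⟶ G, sm a g p = p' := by
  constructor
  · intro h T p p'
    have : IsIso (lift a.act (snd G P)) := h
    have key : ∀ (x : T ⟶ G ⊗ P), x ≫ lift a.act (snd G P) = lift (sm a (x ≫ fst G P) (x ≫ snd G P)) (x ≫ snd G P) := by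
      intro x
      rw [comp_lift, sm, ← comp_lift_assoc, lift_fst_snd, Category.id_comp]
    refine ⟨(lift p' p ≫ inv (lift a.act (snd G P))) ≫ fst G P, ?_, ?_⟩
    · have h1 := key (lift p' p ≫ inv (lift a.act (snd G P)))
      rw [Category.assoc, IsIso.inv_hom_id, Category.comp_id] at h1
      have h2 := congrArg (fun x => x ≫ snd P P) h1
      have h3 := congrArg (fun x => x ≫ fst P P) h1
      simp only [lift_snd, lift_fst] at h2 h3
      dsimp only
      rw [← h2] at h3
      exact h3.symm
    · intro g hg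
      have h1 := key (lift g p)
      rw [lift_fst, lift_snd, hg] at h1
      rw [← h1, Category.assoc, Category.assoc, IsIso.hom_inv_id_assoc, lift_fst]
  · intro h
    choose d hd hu using h
    have e1 : lift (d _ (snd P P) (fst P P)) (snd P P) ≫ lift a.act (snd G P) = 𝟙 _ := by
      rw [comp_lift, lift_snd, ← lift_fst_snd]
      congr 1
      exact hd _ (snd P P) (fst P P)
    have e2 : lift a.act (snd G P) ≫ lift (d _ (snd P P) (fst P P)) (snd P P) = 𝟙 _ := by
      rw [comp_lift, lift_snd]
      have : lift a.act (snd G P) ≫ d _ (snd P P) (fst P P) = fst G P := by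
        have h1 : sm a (fst G P) (snd G P) = a.act := by rw [sm, lift_fst_snd, Category.id_comp]
        have h2 : sm a (lift a.act (snd G P) ≫ d _ (snd P P) (fst P P)) (snd G P) = a.act := by
          have h3 : lift a.act (snd G P) ≫ sm a (d _ (snd P P) (fst P P)) (snd P P) =
            lift a.act (snd G P) ≫ fst P P := congrArg (fun x => lift a.act (snd G P) ≫ x) (hd _ (snd P P) (fst P P))
          rw [comp_sm, lift_snd, lift_fst] at h3
          exact h3
        rw [hu _ (snd G P) a.act _ h2, ← hu _ (snd G P) a.act _ h1]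
      rw [this, lift_fst_snd]
    exact ⟨⟨_, e2, e1⟩⟩

end sm

section bc

variable {S X : Scheme.{u}} (q : X ⟶ S) {G : Over S} [GrpObj G]

/-- Points of the base change. -/
noncomputable def up {G : Over S} {T : Over X} (g : (Over.map q).obj T ⟶ G) : T ⟶ Red.bc q G :=
  (Over.mapPullbackAdj q).homEquiv T G g

/-- Points of the base change. -/
noncomputable def dn {G : Over S} {T : Over X} (g : T ⟶ Red.bc q G) : (Over.map q).obj T ⟶ G :=
  ((Over.mapPullbackAdj q).homEquiv T G).symm g

omit [GrpObj G] in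
@[simp] theorem up_dn {T : Over X} (g : T ⟶ Red.bc q G) : up q (dn q g) = g := Equiv.apply_symm_apply _ _

omit [GrpObj G] in
@[simp] theorem dn_up {T : Over X} (g : (Over.map q).obj T ⟶ G) : dn q (up q g) = g := Equiv.symm_apply_apply _ _

omit [GrpObj G] in
theorem up_injective {T : Over X} : Function.Injective (up q : ((Over.map q).obj T ⟶ G) → _) :=
  Equiv.injective _

theorem up_mul {T : Over X} (g h : (Over.map q).obj T ⟶ G) : up q (g * h) = up q g * up q h := homEquiv_mul q g h

theorem up_one {T : Over X} : up q (1 : (Over.map q).obj T ⟶ G) = 1 := by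
  have h := up_mul q (T := T) (1 : (Over.map q).obj T ⟶ G) 1
  rw [_root_.mul_one] at h
  exact (left_eq_mul.mp h)

omit [GrpObj G] in
theorem comp_up {T T' : Over X} (f : T' ⟶ T) (g : (Over.map q).obj T ⟶ G) :
    f ≫ up q g = up q ((Over.map q).map f ≫ g) := ((Over.mapPullbackAdj q).homEquiv_naturality_left f g).symm

omit [GrpObj G] in
theorem up_comp {G' : Over S} {T : Over X} (g : (Over.map q).obj T ⟶ G) (φ : G ⟶ G') :
    up q g ≫ (Over.pullback q).map φ = up q (g ≫ φ) := ((Over.mapPullbackAdj q).homEquiv_naturality_right g φ).symm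

omit [GrpObj G] in
@[reassoc] theorem up_left_fst {T : Over X} (g : (Over.map q).obj T ⟶ G) :
    (up q g).left ≫ pullback.fst G.hom q = g.left := by
  rw [up, Adjunction.homEquiv_unit, Over.comp_left, Category.assoc, ActBC.pullback_map_left_fst]
  simp [Over.mapPullbackAdj, pullback.lift_fst_assoc]

omit [GrpObj G] in
@[reassoc] theorem up_left_snd {T : Over X} (g : (Over.map q).obj T ⟶ G) :
    (up q g).left ≫ pullback.snd G.hom q = T.hom := Over.w (up q g)

end bc

end K996.Pts
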