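import Groth.Agent.NoriFGS.K996.KAct
import Groth.Agent.Sga3C.SubGrp

/-!
# Closed subobjects, subgroups and stable subobjects by membership of points
-/

set_option autoImplicit false
universe u
open CategoryTheory CategoryTheory.Limits MonoidalCategory CartesianMonoidalCategory MonObj GrpObj AlgebraicGeometry

namespace K996.Sub

open AlgGrp AlgGrp.Action K996.Pts K996.KAct

/-- The point `t` lies in the subobject `j`. -/
def Fac {C : Type*} [Category C] {Z W T : C} (j : Z ⟶ W) (t : T ⟶ W) : Prop := ∃ z : T ⟶ Z, z ≫ j = t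

theorem Fac.comp {C : Type*} [Category C] {Z W T T' : C} {j : Z ⟶ W} {t : T ⟶ W} (h : Fac j t) (s : T' ⟶ T) :
    Fac j (s ≫ t) := by
  obtain ⟨z, hz⟩ := h
  exact ⟨s ≫ z, by rw [Category.assoc, hz]⟩

theorem Fac.of_eq {C : Type*} [Category C] {Z W T : C} {j : Z ⟶ W} {t t' : T ⟶ W} (h : Fac j t) (e : t' = t) :
    Fac j t' := by rwa [e]

theorem isIso_of_fac_id {C : Type*} [Category C] {Z W : C} (j : Z ⟶ W) [Mono j] (h : Fac j (𝟙 W)) : IsIso j := by
  obtain ⟨s, hs⟩ := h
  exact ⟨s, by rw [← cancel_mono j, Category.assoc, hs, Category.comp_id, Category.id_comp], hs⟩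

theorem mono_of_left {S : Scheme.{u}} {Z W : Over S} (j : Z ⟶ W) [IsClosedImmersion j.left] : Mono j := by
  have : Mono j.left := inferInstance
  exact Over.mono_of_mono_left j

section over

variable {S : Scheme.{u}}

/-- Inverse image of a closed subobject. -/
theorem exists_preimage {A B C : Over S} (f : A ⟶ C) (j : B ⟶ C) [IsClosedImmersion j.left] :
    ∃ (Z : Over S) (m : Z ⟶ A), IsClosedImmersion m.left ∧
      ∀ (T : Over S) (t : T ⟶ A), Fac m t ↔ Fac j (t ≫ f) := by
  refine ⟨Over.mk (pullback.fst f.left j.left ≫ A.hom), Over.homMk (pullback.fst f.left j.left) rfl,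
    inferInstanceAs (IsClosedImmersion (pullback.fst f.left j.left)), fun T t => ?_⟩
  constructor
  · rintro ⟨z, rfl⟩
    refine ⟨Over.homMk (z.left ≫ pullback.snd f.left j.left) ?_, ?_⟩
    · rw [Category.assoc, ← Over.w j, ← pullback.condition_assoc, Over.w f, ← Over.w z]
      rfl
    · apply Over.OverMorphism.ext
      change (z.left ≫ pullback.snd f.left j.left) ≫ j.left = (z.left ≫ pullback.fst f.left j.left) ≫ f.left
      rw [Category.assoc, Category.assoc, pullback.condition]
  · rintro ⟨z, hz⟩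
    have hz' : z.left ≫ j.left = t.left ≫ f.left := congrArg (fun x => x.left) hz
    refine ⟨Over.homMk (pullback.lift t.left z.left hz'.symm) ?_, ?_⟩
    · change pullback.lift t.left z.left hz'.symm ≫ pullback.fst f.left j.left ≫ A.hom = T.hom
      rw [pullback.lift_fst_assoc, Over.w]
    · apply Over.OverMorphism.ext
      exact pullback.lift_fst _ _ _

variable {G H : Over S} [GrpObj G]

/-- A subobject stable under the group operations is a subgroup. -/
theorem exists_grpObj (i : H ⟶ G) [Mono i]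
    (hm : ∀ (T : Over S) (g h : T ⟶ G), Fac i g → Fac i h → Fac i (g * h))
    (he : ∀ (T : Over S), Fac i (1 : T ⟶ G))
    (hv : ∀ (T : Over S) (g : T ⟶ G), Fac i g → Fac i g⁻¹) : ∃ _ : GrpObj H, IsMonHom i := by
  apply Groth.Agent.Sga3C.SubGrp.exists_grpObj_of_mono
  · obtain ⟨z, hz⟩ := hm (H ⊗ H) (fst H H ≫ i) (snd H H ≫ i) ⟨_, rfl⟩ ⟨_, rfl⟩
    refine ⟨z, hz.trans ?_⟩
    rw [Hom.mul_def]
    congr 1
  · obtain ⟨z, hz⟩ := he (𝟙_ (Over S))
    refine ⟨z, hz.trans ?_⟩
    rw [Hom.one_def, toUnit_unique (toUnit (𝟙_ (Over S))) (𝟙 _), Category.id_comp]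
  · obtain ⟨z, hz⟩ := hv H i ⟨𝟙 _, Category.id_comp _⟩
    exact ⟨z, hz.trans (Hom.inv_def i)⟩

end over

section act

variable {S X : Scheme.{u}} {q : X ⟶ S} {G H : Over S} [GrpObj G] [GrpObj H] {P V : Over X}

/-- A stable subobject of an `X`-scheme with action inherits an action. -/
theorem exists_action (i : H ⟶ G) [IsMonHom i] (a : Action (Red.bc q G) P) (j : V ⟶ P) [Mono j]
    (h : ∀ (T : Over S) (g : T ⟶ H) (p : T ⟶ (Over.map q).obj V),
      Fac ((Over.map q).map j) (sm (kact q a) (g ≫ i) (p ≫ (Over.map q).map j))) :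
    ∃ b : Action (Red.bc q H) V, IsEquivariant b (a.restrict ((Over.pullback q).map i)) j := by
  have key : ∀ (T : Over X) (g : T ⟶ Red.bc q H) (p : T ⟶ V),
      Fac j (sm a (g ≫ (Over.pullback q).map i) (p ≫ j)) := by
    intro T g p
    obtain ⟨z, hz⟩ := h _ (dn q g) ((Over.map q).map p)
    rw [← Functor.map_comp, sm_kact, ← up_comp, up_dn] at hz
    obtain ⟨z', rfl⟩ := exists_hom_of_pr q z (by
      have := congrArg (fun x => x ≫ pr q P) hz
      simp only [Category.assoc, map_pr] at this
      exact this)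
    refine ⟨z', map_injective q ?_⟩
    rw [Functor.map_comp, hz]
  choose act hact using key
  refine ⟨mkAct V act ?_ ?_ ?_, ?_⟩
  · intro T T' f g p
    rw [← cancel_mono j, Category.assoc, hact, hact, comp_sm, Category.assoc, Category.assoc]
  · intro T p
    rw [← cancel_mono j, hact]
    have : (1 : T ⟶ Red.bc q H) ≫ (Over.pullback q).map i = 1 := one_comp _
    rw [this, sm_one]
  · intro T g h p
    rw [← cancel_mono j, hact, hact, hact]
    have : (g * h) ≫ (Over.pullback q).map i = (g ≫ (Over.pullback q).map i) * (h ≫ (Over.pullback q).map i) :=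
      mul_comp _ _ _
    rw [this, sm_mul]
  · rw [isEquivariant_restrict_iff]
    intro T g p
    rw [sm_mkAct, hact]

end act

end K996.Sub
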